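import Mathlib
import Cfsg.Agent.HN.Syl
import Cfsg.Agent.H789.MS.HN25B_m3
import Cfsg.Agent.HN.FactB
import Cfsg.Agent.H513.HNZ
import Cfsg.Agent.FastGrp
import Cfsg.Agent.Prune
set_option linter.all false

section
prune_inst 0x7f00000000000000000000000000000000000000000000000000000000000000000000000000000000000000000000000000000000000000000000000000000000000000000000000000000000000000003fffffffffffffffffffffffffffbeffbdffffffff

-- part: H651/HNF/Table
section
set_option linter.all false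

/-!
# The 5-regular classes of the Harada-Norton group: interface (helper651, for (M,23) of S4929)

`Ty` : the classes of elements of order prime to 5 (`19A` and `19B` together), and `sing` for the other elements; `Ty.ord`, `Ty.cen`
(order of the centralizer), `Ty.pw` (power maps), `Ty.num` (number of elements), `Ty.b`, `Ty.th` (values of `β` and of `θ`).
`Table H ty` : the facts. The theorem for `Spor.HN` is in `H651/HNF/Main.lean`.
-/

set_option autoImplicit false

namespace Cfsg.Agent.H651.HNF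

/-- the types of elements -/
inductive Ty
  | sing | c1 | c2A | c2B | c3A | c3B | c4A | c4B | c4C | c6A | c6B | c6C | c7 | c8A | c8B | c9 | c11 | c12A | c12B | c12C | c14 | c19 | c21 | c22
  deriving DecidableEq

namespace Ty

/-- all types -/
def all : List Ty := [sing, c1, c2A, c2B, c3A, c3B, c4A, c4B, c4C, c6A, c6B, c6C, c7, c8A, c8B, c9, c11, c12A, c12B, c12C, c14, c19, c21, c22]

theorem mem_all : ∀ t : Ty, t ∈ all := by intro t; cases t <;> decide +kernel

instance : Fintype Ty where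
  elems := ⟨(all : Multiset Ty), by decide +kernel⟩
  complete t := mem_all t

/-- the order of the elements (0 for `sing`) -/
def ord : Ty → ℕ
  | sing => 0
  | c1 => 1 | c2A => 2 | c2B => 2 | c3A => 3 | c3B => 3 | c4A => 4 | c4B => 4 | c4C => 4 | c6A => 6 | c6B => 6 | c6C => 6 | c7 => 7 | c8A => 8 | c8B => 8 | c9 => 9 | c11 => 11 | c12A => 12 | c12B => 12 | c12C => 12 | c14 => 14 | c19 => 19 | c21 => 21 | c22 => 22

/-- the order of the centralizer (0 for `sing`) -/
def cen : Ty → ℕ
  | sing => 0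
  | c1 => 273030912000000
  | c2A => 177408000
  | c2B => 3686400
  | c3A => 544320
  | c3B => 29160
  | c4A => 15360
  | c4B => 5760
  | c4C => 3840
  | c6A => 1440
  | c6B => 576
  | c6C => 360
  | c7 => 420
  | c8A => 80
  | c8B => 64
  | c9 => 27
  | c11 => 22
  | c12A => 72
  | c12B => 48
  | c12C => 12
  | c14 => 28
  | c19 => 19
  | c21 => 21
  | c22 => 22

/-- the number of elements (0 for `sing`) -/
def num : Ty → ℕ
  | sing => 0
  | c1 => 1
  | c2A => 1539000
  | c2B => 74064375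
  | c3A => 501600000
  | c3B => 9363200000
  | c4A => 17775450000
  | c4B => 47401200000
  | c4C => 71101800000
  | c6A => 189604800000
  | c6B => 474012000000
  | c6C => 758419200000
  | c7 => 650073600000
  | c8A => 3412886400000
  | c8B => 4266108000000
  | c9 => 10112256000000
  | c11 => 12410496000000
  | c12A => 3792096000000
  | c12B => 5688144000000
  | c12C => 22752576000000
  | c14 => 9751104000000
  | c19 => 28740096000000
  | c21 => 13001472000000
  | c22 => 12410496000000

/-- squares -/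
def sq : Ty → Ty
  | sing => sing
  | c1 => c1 | c2A => c1 | c2B => c1 | c3A => c3A | c3B => c3B | c4A => c2B | c4B => c2A | c4C => c2B | c6A => c3A | c6B => c3A | c6C => c3B | c7 => c7 | c8A => c4B | c8B => c4A | c9 => c9 | c11 => c11 | c12A => c6A | c12B => c6B | c12C => c6C | c14 => c7 | c19 => c19 | c21 => c21 | c22 => c11

/-- cubes -/
def cu : Ty → Ty
  | sing => sing
  | c1 => c1 | c2A => c2A | c2B => c2B | c3A => c1 | c3B => c1 | c4A => c4A | c4B => c4B | c4C => c4C | c6A => c2A | c6B => c2B | c6C => c2B | c7 => c7 | c8A => c8A | c8B => c8B | c9 => c3B | c11 => c11 | c12A => c4B | c12B => c4A | c12C => c4C | c14 => c14 | c19 => c19 | c21 => c7 | c22 => c22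

/-- power maps for primes `p ≠ 5` -/
def pw (p : ℕ) (t : Ty) : Ty :=
  if p = 2 then sq t else if p = 3 then cu t else
  if p = 7 then (match t with | c7 => c1 | c14 => c2A | c21 => c3A | t => t) else
  if p = 11 then (match t with | c11 => c1 | c22 => c2A | t => t) else
  if p = 19 then (match t with | c19 => c1 | t => t) else t

/-- the values of `β` (the 5-modular character of degree 133) -/
def b : Ty → ℤ
  | sing => 0
  | c1 => 133 | c2A => 21 | c2B => 5 | c3A => 7 | c3B => -2 | c4A => 5 | c4B => 1 | c4C => -3 | c6A => 3 | c6B => -1 | c6C => 2 | c7 => 0 | c8A => -1 | c8B => 1 | c9 => 1 | c11 => 1 | c12A => 1 | c12B => -1 | c12C => 0 | c14 => 0 | c19 => 0 | c21 => 0 | c22 => -1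

/-- the values of `θ` (on the 5-regular elements) -/
def th : Ty → ℤ
  | sing => 0
  | c1 => 2375000 | c2A => -1000 | c2B => 600 | c3A => -190 | c3B => 80 | c4A => 40 | c4B => 0 | c4C => 0 | c6A => -10 | c6B => -6 | c6C => 0 | c7 => 5 | c8A => 0 | c8B => 0 | c9 => -1 | c11 => 1 | c12A => 0 | c12B => -2 | c12C => 0 | c14 => 1 | c19 => 0 | c21 => -1 | c22 => 1

theorem num_mul : ∀ t : Ty, t ≠ sing → num t * cen t = (if t = c19 then 2 else 1) * 273030912000000 := by decide +kernel

end Ty

/-- **the class table** -/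
structure Table (H : Type) [Group H] (ty : H → Ty) : Prop where
  card : Nat.card H = 273030912000000
  sing : ∀ g, ty g = .sing ↔ 5 ∣ orderOf g
  ord : ∀ g, ty g ≠ .sing → orderOf g = (ty g).ord
  cent : ∀ g, ty g ≠ .sing → Nat.card (Subgroup.centralizer ({g} : Set H)) = (ty g).cen
  inv : ∀ g h, IsConj g h → ty g = ty h
  conj : ∀ g h, ty g = ty h → ty g ≠ .sing → ty g ≠ .c19 → IsConj g h
  pow : ∀ g p, p.Prime → ty g ≠ .sing → ty (g ^ p) = (ty g).pw p
  real : ∀ g, ty g ≠ .sing → ∀ m : ℕ, m.Coprime (orderOf g) → ty (g ^ m) = ty g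
  num : ∀ t, t ≠ .sing → Nat.card {g : H // ty g = t} = t.num

end Cfsg.Agent.H651.HNF
end

-- part: H651/HNF/Raw
section
set_option linter.all false
open scoped Cfsg.Agent.FastGrp

/-!
# The class table of HN from centralizer orders (helper651, (M,23))

`tyOf o c` : the type from the order and the order of the centralizer; `Raw H` : the facts in terms of orders and centralizer
orders; `Raw.table` : the table (except for `num`, which is an input).
-/

set_option autoImplicit false

namespace Cfsg.Agent.H651.HNF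

open Subgroup

/-- the type from the order and the order of the centralizer -/
def tyOf (o c : ℕ) : Ty :=
  if o % 5 = 0 then .sing else
  match o with
  | 1 => .c1
  | 2 => if c = 177408000 then .c2A else .c2B
  | 3 => if c = 544320 then .c3A else .c3B
  | 4 => if c = 15360 then .c4A else if c = 5760 then .c4B else .c4C
  | 6 => if c = 1440 then .c6A else if c = 576 then .c6B else .c6C
  | 7 => .c7
  | 8 => if c = 80 then .c8A else .c8B
  | 9 => .c9
  | 11 => .c11
  | 12 => if c = 72 then .c12A else if c = 48 then .c12B else .c12C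
  | 14 => .c14
  | 19 => .c19
  | 21 => .c21
  | 22 => .c22
  | _ => .sing

section
variable {H : Type} [Group H]

/-- the order of the centralizer -/
noncomputable def cn (g : H) : ℕ := Nat.card (centralizer ({g} : Set H))

/-- the type -/
noncomputable def tyH (g : H) : Ty := tyOf (orderOf g) (cn g)

/-- the facts -/
structure Raw (H : Type) [Group H] : Prop where
  card : Nat.card H = 273030912000000
  cover : ∀ g : H, ¬ 5 ∣ orderOf g → orderOf g ∈ ({1, 2, 3, 4, 6, 7, 8, 9, 11, 12, 14, 19, 21, 22} : Finset ℕ)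
  r2 : ∀ g : H, orderOf g = 2 → cn g = 177408000 ∨ cn g = 3686400
  r3 : ∀ g : H, orderOf g = 3 → cn g = 544320 ∨ cn g = 29160
  r4 : ∀ g : H, orderOf g = 4 → (cn (g ^ 2) = 3686400 ∧ cn g = 15360) ∨ (cn (g ^ 2) = 177408000 ∧ cn g = 5760) ∨
    (cn (g ^ 2) = 3686400 ∧ cn g = 3840)
  r6 : ∀ g : H, orderOf g = 6 → (cn (g ^ 3) = 177408000 ∧ cn (g ^ 2) = 544320 ∧ cn g = 1440) ∨
    (cn (g ^ 3) = 3686400 ∧ cn (g ^ 2) = 544320 ∧ cn g = 576) ∨ (cn (g ^ 3) = 3686400 ∧ cn (g ^ 2) = 29160 ∧ cn g = 360)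
  r7 : ∀ g : H, orderOf g = 7 → cn g = 420
  r8 : ∀ g : H, orderOf g = 8 → (cn (g ^ 2) = 5760 ∧ cn g = 80) ∨ (cn (g ^ 2) = 15360 ∧ cn g = 64)
  r9 : ∀ g : H, orderOf g = 9 → cn (g ^ 3) = 29160 ∧ cn g = 27
  r11 : ∀ g : H, orderOf g = 11 → cn g = 22
  r12 : ∀ g : H, orderOf g = 12 → (cn (g ^ 2) = 1440 ∧ cn (g ^ 3) = 5760 ∧ cn g = 72) ∨
    (cn (g ^ 2) = 576 ∧ cn (g ^ 3) = 15360 ∧ cn g = 48) ∨ (cn (g ^ 2) = 360 ∧ cn (g ^ 3) = 3840 ∧ cn g = 12)
  r14 : ∀ g : H, orderOf g = 14 → cn g = 28
  r19 : ∀ g : H, orderOf g = 19 → cn g = 19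
  r21 : ∀ g : H, orderOf g = 21 → cn g = 21
  r22 : ∀ g : H, orderOf g = 22 → cn g = 22
  conj : ∀ g h : H, orderOf g = orderOf h → cn g = cn h → ¬ 5 ∣ orderOf g → orderOf g ≠ 19 → IsConj g h

/-! ### powers -/

theorem cn_eq {g h : H} (hs : ∀ c : H, Commute c g ↔ Commute c h) : cn g = cn h := by
  have : centralizer ({g} : Set H) = centralizer ({h} : Set H) := by
    ext c
    rw [mem_centralizer_singleton_iff, mem_centralizer_singleton_iff]
    exact hs c
  unfold cn
  rw [this]

variable [Finite H]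

theorem cn_pow {g : H} {m : ℕ} (hm : m.Coprime (orderOf g)) : cn (g ^ m) = cn g := by
  apply cn_eq
  intro c
  refine ⟨fun h => ?_, fun h => h.pow_right m⟩
  have h0 := orderOf_pos g
  by_cases h1 : orderOf g = 1
  · rw [orderOf_eq_one_iff.1 h1]; exact Commute.one_right c
  obtain ⟨k, -, hk⟩ := Nat.exists_mul_mod_eq_one_of_coprime hm (by omega)
  have h2 : (g ^ m) ^ k = g := by
    rw [← pow_mul, ← pow_mod_orderOf, hk, pow_one]
  rw [← h2]
  exact h.pow_right k

theorem ord_pow {g : H} {m : ℕ} (hm : m.Coprime (orderOf g)) : orderOf (g ^ m) = orderOf g := by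
  rw [orderOf_pow, Nat.Coprime.gcd_eq_one hm.symm, Nat.div_one]

theorem tyH_pow {g : H} {m : ℕ} (hm : m.Coprime (orderOf g)) : tyH (g ^ m) = tyH g := by
  unfold tyH
  rw [cn_pow hm, ord_pow hm]

omit [Finite H] in
theorem tyH_of {g : H} {o c : ℕ} (ho : orderOf g = o) (hc : cn g = c) : tyH g = tyOf o c := by
  unfold tyH
  rw [ho, hc]

omit [Finite H] in
theorem cn_dvd_of_comm {g h : H} (hc : Commute g h) : orderOf h ∣ cn g := by
  have h1 : h ∈ centralizer ({g} : Set H) := mem_centralizer_singleton_iff.2 hc.symm.eq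
  rw [← Subgroup.orderOf_mk h h1]
  exact orderOf_dvd_natCard _

end

namespace Ty

/-- the primes -/
theorem pw_of_not_dvd : ∀ t : Ty, ∀ p ∈ ([2, 3, 7, 11, 19] : List ℕ), ¬ p ∣ ord t → t ≠ sing → pw p t = t := by
  decide +kernel

theorem pw_cop {t : Ty} {p : ℕ} (h : ¬ p ∣ ord t) (ht : t ≠ sing) : pw p t = t := by
  by_cases h1 : p ∈ ([2, 3, 7, 11, 19] : List ℕ)
  · exact pw_of_not_dvd t p h1 h ht
  · simp only [List.mem_cons, List.not_mem_nil, or_false, not_or] at h1
    obtain ⟨h2, h3, h7, h11, h19⟩ := h1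
    unfold pw
    rw [if_neg h2, if_neg h3, if_neg h7, if_neg h11, if_neg h19]

end Ty

namespace Raw

variable {H : Type} [Group H] [Finite H]

/-- **the rows of the table** -/
theorem rows (R : Raw H) (g : H) (h5 : ¬ 5 ∣ orderOf g) :
    tyH g ≠ .sing ∧ orderOf g = (tyH g).ord ∧ cn g = (tyH g).cen := by
  have hc := R.cover g h5
  simp only [Finset.mem_insert, Finset.mem_singleton] at hc
  have key : ∀ {o c : ℕ} (t : Ty), orderOf g = o → cn g = c → tyOf o c = t → t ≠ .sing → o = t.ord → c = t.cen →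
      tyH g ≠ .sing ∧ orderOf g = (tyH g).ord ∧ cn g = (tyH g).cen := by
    intro o c t ho hc ht h1 h2 h3
    rw [tyH_of ho hc, ht]
    exact ⟨h1, ho.trans h2, hc.trans h3⟩
  rcases hc with h | h | h | h | h | h | h | h | h | h | h | h | h | h
  · refine key .c1 h (c := 273030912000000) ?_ rfl (by decide) rfl rfl
    rw [← R.card, orderOf_eq_one_iff.1 h]
    unfold cn
    have : centralizer ({(1 : H)} : Set H) = ⊤ := by
      ext c
      simp [mem_centralizer_singleton_iff]
    rw [this, Subgroup.card_top]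
  · rcases R.r2 g h with h1 | h1
    · exact key .c2A h h1 rfl (by decide) rfl rfl
    · exact key .c2B h h1 rfl (by decide) rfl rfl
  · rcases R.r3 g h with h1 | h1
    · exact key .c3A h h1 rfl (by decide) rfl rfl
    · exact key .c3B h h1 rfl (by decide) rfl rfl
  · rcases R.r4 g h with ⟨-, h1⟩ | ⟨-, h1⟩ | ⟨-, h1⟩
    · exact key .c4A h h1 rfl (by decide) rfl rfl
    · exact key .c4B h h1 rfl (by decide) rfl rfl
    · exact key .c4C h h1 rfl (by decide) rfl rfl
  · rcases R.r6 g h with ⟨-, -, h1⟩ | ⟨-, -, h1⟩ | ⟨-, -, h1⟩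
    · exact key .c6A h h1 rfl (by decide) rfl rfl
    · exact key .c6B h h1 rfl (by decide) rfl rfl
    · exact key .c6C h h1 rfl (by decide) rfl rfl
  · exact key .c7 h (R.r7 g h) rfl (by decide) rfl rfl
  · rcases R.r8 g h with ⟨-, h1⟩ | ⟨-, h1⟩
    · exact key .c8A h h1 rfl (by decide) rfl rfl
    · exact key .c8B h h1 rfl (by decide) rfl rfl
  · exact key .c9 h (R.r9 g h).2 rfl (by decide) rfl rfl
  · exact key .c11 h (R.r11 g h) rfl (by decide) rfl rfl
  · rcases R.r12 g h with ⟨-, -, h1⟩ | ⟨-, -, h1⟩ | ⟨-, -, h1⟩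
    · exact key .c12A h h1 rfl (by decide) rfl rfl
    · exact key .c12B h h1 rfl (by decide) rfl rfl
    · exact key .c12C h h1 rfl (by decide) rfl rfl
  · exact key .c14 h (R.r14 g h) rfl (by decide) rfl rfl
  · exact key .c19 h (R.r19 g h) rfl (by decide) rfl rfl
  · exact key .c21 h (R.r21 g h) rfl (by decide) rfl rfl
  · exact key .c22 h (R.r22 g h) rfl (by decide) rfl rfl

theorem sing_iff (R : Raw H) (g : H) : tyH g = .sing ↔ 5 ∣ orderOf g := by
  constructor
  · intro h
    by_contra hc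
    exact (R.rows g hc).1 h
  · intro h
    unfold tyH tyOf
    rw [if_pos (Nat.mod_eq_zero_of_dvd h)]

/-- powers with exponent dividing the order -/
theorem pow_dvd (R : Raw H) (g : H) (p : ℕ) (hp : p.Prime) (h5 : ¬ 5 ∣ orderOf g) (hd : p ∣ orderOf g) :
    tyH (g ^ p) = (tyH g).pw p := by
  have hc := R.cover g h5
  simp only [Finset.mem_insert, Finset.mem_singleton] at hc
  have hord : ∀ {n m : ℕ}, orderOf g = n → p * m = n → orderOf (g ^ p) = m := by
    intro n m hn hm
    rw [orderOf_pow, hn, ← hm, Nat.gcd_eq_right (dvd_mul_right p m), Nat.mul_div_cancel_left _ hp.pos]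
  have pe : ∀ {n : ℕ}, orderOf g = n → p ∈ n.primeFactors := by
    intro n hn
    rw [Nat.mem_primeFactors]
    exact ⟨hp, hn ▸ hd, hn ▸ (orderOf_pos g).ne'⟩
  have comm : ∀ k : ℕ, orderOf g ∣ cn (g ^ k) := fun k =>
    cn_dvd_of_comm ((Commute.refl g).pow_left k)
  rcases hc with h | h | h | h | h | h | h | h | h | h | h | h | h | h
  · have := pe h
    rw [show Nat.primeFactors 1 = ∅ by decide +kernel] at this
    simp at this
  · have := pe h
    rw [show Nat.primeFactors 2 = {2} by decide +kernel, Finset.mem_singleton] at this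
    subst this
    have e : tyH (g ^ 2) = .c1 := by
      have h1 := hord h (m := 1) rfl
      have h2 := R.rows (g ^ 2) (by rw [h1]; norm_num)
      unfold tyH
      rw [h1]; rfl
    rw [e]
    rcases R.r2 g h with h1 | h1 <;> (rw [tyH_of h h1]; rfl)
  · have := pe h
    rw [show Nat.primeFactors 3 = {3} by decide +kernel, Finset.mem_singleton] at this
    subst this
    have e : tyH (g ^ 3) = .c1 := by
      have h1 := hord h (m := 1) rfl
      unfold tyH
      rw [h1]; rfl
    rw [e]
    rcases R.r3 g h with h1 | h1 <;> (rw [tyH_of h h1]; rfl)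
  · have := pe h
    rw [show Nat.primeFactors 4 = {2} by decide +kernel, Finset.mem_singleton] at this
    subst this
    rcases R.r4 g h with ⟨h0, h1⟩ | ⟨h0, h1⟩ | ⟨h0, h1⟩ <;>
      (rw [tyH_of h h1, tyH_of (hord h (m := 2) rfl) h0]; rfl)
  · have := pe h
    rw [show Nat.primeFactors 6 = {2, 3} by decide +kernel, Finset.mem_insert, Finset.mem_singleton] at this
    rcases this with rfl | rfl
    · rcases R.r6 g h with ⟨-, h0, h1⟩ | ⟨-, h0, h1⟩ | ⟨-, h0, h1⟩ <;>
        (rw [tyH_of h h1, tyH_of (hord h (m := 3) rfl) h0]; rfl)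
    · rcases R.r6 g h with ⟨h0, -, h1⟩ | ⟨h0, -, h1⟩ | ⟨h0, -, h1⟩ <;>
        (rw [tyH_of h h1, tyH_of (hord h (m := 2) rfl) h0]; rfl)
  · have := pe h
    rw [show Nat.primeFactors 7 = {7} by decide +kernel, Finset.mem_singleton] at this
    subst this
    have e : tyH (g ^ 7) = .c1 := by
      have h1 := hord h (m := 1) rfl
      unfold tyH
      rw [h1]; rfl
    rw [e, tyH_of h (R.r7 g h)]; rfl
  · have := pe h
    rw [show Nat.primeFactors 8 = {2} by decide +kernel, Finset.mem_singleton] at this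
    subst this
    rcases R.r8 g h with ⟨h0, h1⟩ | ⟨h0, h1⟩ <;>
      (rw [tyH_of h h1, tyH_of (hord h (m := 4) rfl) h0]; rfl)
  · have := pe h
    rw [show Nat.primeFactors 9 = {3} by decide +kernel, Finset.mem_singleton] at this
    subst this
    rw [tyH_of h (R.r9 g h).2, tyH_of (hord h (m := 3) rfl) (R.r9 g h).1]; rfl
  · have := pe h
    rw [show Nat.primeFactors 11 = {11} by decide +kernel, Finset.mem_singleton] at this
    subst this
    have e : tyH (g ^ 11) = .c1 := by
      have h1 := hord h (m := 1) rfl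
      unfold tyH
      rw [h1]; rfl
    rw [e, tyH_of h (R.r11 g h)]; rfl
  · have := pe h
    rw [show Nat.primeFactors 12 = {2, 3} by decide +kernel, Finset.mem_insert, Finset.mem_singleton] at this
    rcases this with rfl | rfl
    · rcases R.r12 g h with ⟨h0, -, h1⟩ | ⟨h0, -, h1⟩ | ⟨h0, -, h1⟩ <;>
        (rw [tyH_of h h1, tyH_of (hord h (m := 6) rfl) h0]; rfl)
    · rcases R.r12 g h with ⟨-, h0, h1⟩ | ⟨-, h0, h1⟩ | ⟨-, h0, h1⟩ <;>
        (rw [tyH_of h h1, tyH_of (hord h (m := 4) rfl) h0]; rfl)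
  · have := pe h
    rw [show Nat.primeFactors 14 = {2, 7} by decide +kernel, Finset.mem_insert, Finset.mem_singleton] at this
    rcases this with rfl | rfl
    · have h1 := hord h (m := 7) rfl
      rw [tyH_of h (R.r14 g h), tyH_of h1 (R.r7 _ h1)]; rfl
    · have h1 := hord h (m := 2) rfl
      have h2 : cn (g ^ 7) = 177408000 := by
        rcases R.r2 _ h1 with h2 | h2
        · exact h2
        · exfalso
          have h3 := comm 7
          rw [h, h2] at h3
          norm_num at h3
      rw [tyH_of h (R.r14 g h), tyH_of h1 h2]; rfl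
  · have := pe h
    rw [show Nat.primeFactors 19 = {19} by decide +kernel, Finset.mem_singleton] at this
    subst this
    have e : tyH (g ^ 19) = .c1 := by
      have h1 := hord h (m := 1) rfl
      unfold tyH
      rw [h1]; rfl
    rw [e, tyH_of h (R.r19 g h)]; rfl
  · have := pe h
    rw [show Nat.primeFactors 21 = {3, 7} by decide +kernel, Finset.mem_insert, Finset.mem_singleton] at this
    rcases this with rfl | rfl
    · have h1 := hord h (m := 7) rfl
      rw [tyH_of h (R.r21 g h), tyH_of h1 (R.r7 _ h1)]; rfl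
    · have h1 := hord h (m := 3) rfl
      have h2 : cn (g ^ 7) = 544320 := by
        rcases R.r3 _ h1 with h2 | h2
        · exact h2
        · exfalso
          have h3 := comm 7
          rw [h, h2] at h3
          norm_num at h3
      rw [tyH_of h (R.r21 g h), tyH_of h1 h2]; rfl
  · have := pe h
    rw [show Nat.primeFactors 22 = {2, 11} by decide +kernel, Finset.mem_insert, Finset.mem_singleton] at this
    rcases this with rfl | rfl
    · have h1 := hord h (m := 11) rfl
      rw [tyH_of h (R.r22 g h), tyH_of h1 (R.r11 _ h1)]; rfl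
    · have h1 := hord h (m := 2) rfl
      have h2 : cn (g ^ 11) = 177408000 := by
        rcases R.r2 _ h1 with h2 | h2
        · exact h2
        · exfalso
          have h3 := comm 11
          rw [h, h2] at h3
          norm_num at h3
      rw [tyH_of h (R.r22 g h), tyH_of h1 h2]; rfl

/-- **the table** -/
theorem table (R : Raw H) (hnum : ∀ t : Ty, t ≠ .sing → Nat.card {g : H // tyH g = t} = t.num) : Table H tyH where
  card := R.card
  sing := R.sing_iff
  ord g hg := (R.rows g (fun h => hg ((R.sing_iff g).2 h))).2.1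
  cent g hg := (R.rows g (fun h => hg ((R.sing_iff g).2 h))).2.2
  inv := by
    intro g h hc
    obtain ⟨c, rfl⟩ := isConj_iff.1 hc
    have e1 : orderOf (c * g * c⁻¹) = orderOf g := MulEquiv.orderOf_eq (MulAut.conj c) g
    have e2 : cn (c * g * c⁻¹) = cn g := by
      unfold cn
      refine Nat.card_congr ⟨fun u => ⟨c⁻¹ * u * c, ?_⟩, fun u => ⟨c * u * c⁻¹, ?_⟩, fun u => ?_, fun u => ?_⟩
      · have h := mem_centralizer_singleton_iff.1 u.2
        rw [mem_centralizer_singleton_iff]
        calc c⁻¹ * (u : H) * c * g = c⁻¹ * ((u : H) * (c * g * c⁻¹)) * c := by group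
          _ = g * (c⁻¹ * u * c) := by rw [h]; group
      · have h := mem_centralizer_singleton_iff.1 u.2
        rw [mem_centralizer_singleton_iff]
        calc c * (u : H) * c⁻¹ * (c * g * c⁻¹) = c * ((u : H) * g) * c⁻¹ := by group
          _ = c * g * c⁻¹ * (c * u * c⁻¹) := by rw [h]; group
      · apply Subtype.ext
        show c * (c⁻¹ * (u : H) * c) * c⁻¹ = u
        group
      · apply Subtype.ext
        show c⁻¹ * (c * (u : H) * c⁻¹) * c = u
        group
    unfold tyH
    rw [e1, e2]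
  conj := by
    intro g h hgh hg h19
    have h1 := R.rows g (fun h => hg ((R.sing_iff g).2 h))
    have h2 := R.rows h (fun h' => hg (hgh.trans ((R.sing_iff h).2 h')))
    refine R.conj g h ?_ ?_ (fun h => hg ((R.sing_iff g).2 h)) ?_
    · rw [h1.2.1, h2.2.1, hgh]
    · rw [h1.2.2, h2.2.2, hgh]
    · intro h3
      apply h19
      rw [tyH_of h3 (R.r19 g h3)]
      rfl
  pow := by
    intro g p hp hg
    have h5 : ¬ 5 ∣ orderOf g := fun h => hg ((R.sing_iff g).2 h)
    by_cases hd : p ∣ orderOf g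
    · exact R.pow_dvd g p hp h5 hd
    · rw [tyH_pow (hp.coprime_iff_not_dvd.2 hd), Ty.pw_cop _ hg]
      rw [← (R.rows g h5).2.1]
      exact hd
  real := fun g _ m hm => tyH_pow hm
  num := hnum

end Raw

end Cfsg.Agent.H651.HNF
end

-- part: H981/M23/HNTwoA
section
set_option linter.all false
open scoped Cfsg.Agent.FastGrp

/-- decoders of the packed data (elaboration time only) -/
private noncomputable def pk61d (b S i : Nat) : Nat := Nat.mod (Nat.shiftRight S (Nat.mul b i)) (Nat.shiftLeft (nat_lit 1) b)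
private noncomputable def pk61c {α : Type} (t : Nat) (a : α) (f : Nat → α) : α := Nat.rec a (fun k _ => f k) t
private noncomputable def pk61f {α : Type} (t : Nat) (f : Nat → α) : α := Nat.rec (f Nat.zero) (fun k _ => f (Nat.succ k)) t
private noncomputable def pk61l {α : Type} (f : Nat → α) (s e : Nat) (tl : List α) : List α :=
  pk61f e fun e => Nat.rec tl (fun k ih => List.cons (pk61f (Nat.sub e (Nat.succ k)) f) ih) (Nat.sub e s)
private noncomputable def pk61r {α : Type} (F : (Nat → α) → Nat → α) (d : α) (n : Nat) : Nat → α :=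
  Nat.rec (fun _ => d) (fun _ ih => F ih) n


-- part: H981/M23/Lev
section
/-!
# Orders of centralizers in `H0 = 2.HS.2` (helper981, facts for (M,23))

* `prod_le` : lower bound for the order of the centralizer of some words, from a stabilizer chain on the 1408 points
  (certificate `chkL`);
* `card_mul_le` : upper bound from distinct conjugates;
* `inv_of_chk` : tree certificate over the Sylow 2-subgroup `S` for the elements with `g ^ 4 = τ`.
-/

set_option autoImplicit false

namespace Cfsg.Agent.H981.M23.Lev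

open Cfsg.Agent.HN.Pres Cfsg.Agent.HN.P1408 Cfsg.Agent.HN.H0Basic
open Cfsg.Agent.SporadicA.PermTab Equiv

/-- stabilizer of a point -/
def St (p : ℕ) : Subgroup H0 where
  carrier := {g | ∀ q : Fin 1408, (q : ℕ) = p → ψ g q = q}
  one_mem' := fun q _ => by rw [map_one, Perm.one_apply]
  mul_mem' := by
    intro a b ha hb q hq
    rw [map_mul, Perm.mul_apply, hb q hq, ha q hq]
  inv_mem' := by
    intro a ha q hq
    rw [map_inv, Perm.inv_eq_iff_eq]
    exact (ha q hq).symm

theorem mem_St_of_tr {a : List ℕ} (ha : okw a = true) {p : ℕ} (h : tr a p = p) : hw a ∈ St p := by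
  intro q hq
  have h1 : (ψ (hw a))⁻¹ q = q := Fin.ext (by rw [ψ_hw_inv_apply ha, hq, h])
  rw [Perm.inv_eq_iff_eq] at h1
  exact h1.symm

theorem img_eq {p : ℕ} (hp : p < 1408) {u : H0} (hu : u ∈ St p) {w : List ℕ} (hw' : okw w = true) :
    (((ψ (u * hw w))⁻¹ (⟨p, hp⟩ : Fin 1408) : Fin 1408) : ℕ) = tr w p := by
  have h1 : (ψ u)⁻¹ (⟨p, hp⟩ : Fin 1408) = ⟨p, hp⟩ := by
    rw [Perm.inv_eq_iff_eq]
    exact (hu ⟨p, hp⟩ rfl).symm
  rw [map_mul, mul_inv_rev, Perm.mul_apply, h1, ψ_hw_inv_apply hw']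

theorem card_ge (C : Subgroup H0) {p : ℕ} (hp : p < 1408) (W : List (List ℕ))
    (hW : ∀ w ∈ W, okw w = true ∧ hw w ∈ C) (hn : (W.map (fun w => tr w p)).Nodup) :
    W.length * Nat.card ↥(C ⊓ St p) ≤ Nat.card C := by
  have hfin := finite_H0
  have h1 : Nat.card (Fin W.length × ↥(C ⊓ St p)) = W.length * Nat.card ↥(C ⊓ St p) := by
    rw [Nat.card_prod, Nat.card_eq_fintype_card (α := Fin W.length), Fintype.card_fin]
  rw [← h1]
  refine Nat.card_le_card_of_injective
    (fun x => (⟨(x.2 : H0) * hw (W.get x.1), C.mul_mem x.2.2.1 (hW _ (List.get_mem W x.1)).2⟩ : C)) ?_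
  rintro ⟨i, u⟩ ⟨j, v⟩ h
  have h' : (u : H0) * hw (W.get i) = (v : H0) * hw (W.get j) := congrArg Subtype.val h
  have e1 := img_eq hp u.2.2 (hW _ (List.get_mem W i)).1
  have e2 := img_eq hp v.2.2 (hW _ (List.get_mem W j)).1
  rw [h', e2] at e1
  have e3 : i = j := by
    have hinj := List.nodup_iff_injective_get.1 hn
    have hlen : (W.map fun w => tr w p).length = W.length := List.length_map _
    have h11 : (Fin.cast hlen.symm i) = (Fin.cast hlen.symm j) := by
      apply hinj
      simpa using e1.symm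
    simpa [Fin.ext_iff] using h11
  subst e3
  rw [Subtype.ext (mul_right_cancel h')]

/-- the centralizer of some words, fixing some points -/
noncomputable def Sub (cs : List (List ℕ)) (ps : List ℕ) : Subgroup H0 where
  carrier := {g | (∀ c ∈ cs, g * hw c = hw c * g) ∧ ∀ p ∈ ps, g ∈ St p}
  one_mem' := ⟨fun c _ => by rw [one_mul, mul_one], fun p _ => one_mem _⟩
  mul_mem' := by
    rintro a b ⟨ha, ha'⟩ ⟨hb, hb'⟩
    refine ⟨fun c hc => ?_, fun p hp => mul_mem (ha' p hp) (hb' p hp)⟩
    rw [mul_assoc, hb c hc, ← mul_assoc, ha c hc, mul_assoc]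
  inv_mem' := by
    rintro a ⟨ha, ha'⟩
    refine ⟨fun c hc => ?_, fun p hp => inv_mem (ha' p hp)⟩
    rw [inv_mul_eq_iff_eq_mul, ← mul_assoc, ha c hc, mul_assoc, mul_inv_cancel, mul_one]

theorem Sub_inf (cs : List (List ℕ)) (ps : List ℕ) (p : ℕ) : Sub cs ps ⊓ St p = Sub cs (p :: ps) := by
  ext g
  constructor
  · rintro ⟨⟨h1, h2⟩, h3⟩
    refine ⟨h1, fun q hq => ?_⟩
    rcases List.mem_cons.1 hq with rfl | hq
    · exact h3
    · exact h2 q hq
  · rintro ⟨h1, h2⟩
    exact ⟨⟨h1, fun q hq => h2 q (List.mem_cons_of_mem _ hq)⟩, h2 p List.mem_cons_self⟩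

/-- words of a level -/
noncomputable def levB (cs : List (List ℕ)) (ps : List ℕ) (W : List (List ℕ)) : Bool :=
  W.all fun w => okw w && (cs.all (fun c => eqw (w ++ c) (c ++ w)) && ps.all (fun q => Nat.beq (tr w q) q))

theorem levB_spec {cs : List (List ℕ)} {ps : List ℕ} {W : List (List ℕ)} (h : levB cs ps W = true) :
    ∀ w ∈ W, okw w = true ∧ hw w ∈ Sub cs ps := by
  intro w hw'
  have h1 := List.all_eq_true.1 h w hw'
  simp only [Bool.and_eq_true, List.all_eq_true] at h1
  obtain ⟨h1, h2, h3⟩ := h1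
  refine ⟨h1, fun c hc => ?_, fun p hp => mem_St_of_tr h1 (Nat.eq_of_beq_eq_true (h3 p hp))⟩
  have h4 := hw_eq (h2 c hc)
  rwa [hw_append, hw_append] at h4

/-- no repetition -/
def ndB : List ℕ → Bool
  | [] => true
  | a :: l => l.all (fun b => !(Nat.beq a b)) && ndB l

theorem ndB_spec : ∀ {l : List ℕ}, ndB l = true → l.Nodup
  | [], _ => List.nodup_nil
  | a :: l, h => by
    have h' : (l.all (fun b => !(Nat.beq a b)) && ndB l) = true := h
    rw [Bool.and_eq_true, List.all_eq_true] at h'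
    rw [List.nodup_cons]
    refine ⟨fun hm => ?_, ndB_spec h'.2⟩
    have h2 := h'.1 a hm
    rw [show Nat.beq a a = true from Nat.beq_refl a] at h2
    exact absurd h2 (by simp)

/-- a chain of levels -/
noncomputable def chkL (cs : List (List ℕ)) : List ℕ → List (ℕ × List (List ℕ)) → Bool
  | _, [] => true
  | ps, (p, W) :: l => Nat.blt p 1408 && (levB cs ps W && (ndB (W.map fun w => tr w p) && chkL cs (p :: ps) l))

theorem prod_le {cs : List (List ℕ)} : ∀ {l : List (ℕ × List (List ℕ))} {ps : List ℕ}, chkL cs ps l = true →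
    (l.map fun x => x.2.length).prod ≤ Nat.card (Sub cs ps)
  | [], ps, _ => by
    have hfin := finite_H0
    rw [List.map_nil, List.prod_nil]
    exact Nat.card_pos
  | (p, W) :: l, ps, h => by
    have h' : (Nat.blt p 1408 && (levB cs ps W && (ndB (W.map fun w => tr w p) && chkL cs (p :: ps) l))) = true := h
    simp only [Bool.and_eq_true] at h'
    obtain ⟨h1, h2, h3, h4⟩ := h'
    have h5 := card_ge (Sub cs ps) (Nat.blt_eq ▸ h1 : p < 1408) W (levB_spec h2) (ndB_spec h3)
    rw [Sub_inf] at h5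
    rw [List.map_cons, List.prod_cons]
    exact le_trans (Nat.mul_le_mul_left _ (prod_le h4)) h5

theorem Sub_single (c : List ℕ) : Sub [c] [] = Subgroup.centralizer ({hw c} : Set H0) := by
  ext g
  rw [Subgroup.mem_centralizer_singleton_iff]
  constructor
  · intro h
    exact h.1 c (by simp)
  · intro h
    refine ⟨fun c' hc => ?_, fun p hp => absurd hp (by simp)⟩
    rw [List.mem_singleton.1 hc]
    exact h

theorem Sub_pair (c d : List ℕ) : Sub [c, d] [] = Subgroup.centralizer ({hw c} : Set H0) ⊓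
    Subgroup.centralizer ({hw d} : Set H0) := by
  ext g
  rw [Subgroup.mem_inf, Subgroup.mem_centralizer_singleton_iff, Subgroup.mem_centralizer_singleton_iff]
  constructor
  · intro h
    exact ⟨h.1 c (by simp), h.1 d (by simp)⟩
  · rintro ⟨h, h2⟩
    refine ⟨fun c' hc => ?_, fun p hp => absurd hp (by simp)⟩
    rcases List.mem_cons.1 hc with rfl | hc
    · exact h
    · rw [List.mem_singleton.1 hc]
      exact h2

/-- distinct conjugates of `e` by elements of `D` -/
theorem card_mul_le {G : Type*} [Group G] [Finite G] {D : Subgroup G} {e : G} {n : ℕ} (f : Fin n → D)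
    (hf : Function.Injective fun i => (f i : G) * e * (f i : G)⁻¹) :
    n * Nat.card ↥(D ⊓ Subgroup.centralizer ({e} : Set G)) ≤ Nat.card D := by
  have h1 : Nat.card (Fin n × ↥(D ⊓ Subgroup.centralizer ({e} : Set G))) =
      n * Nat.card ↥(D ⊓ Subgroup.centralizer ({e} : Set G)) := by
    rw [Nat.card_prod, Nat.card_eq_fintype_card (α := Fin n), Fintype.card_fin]
  rw [← h1]
  refine Nat.card_le_card_of_injective (fun x => (⟨(f x.1 : G) * (x.2 : G), D.mul_mem (f x.1).2 x.2.2.1⟩ : D)) ?_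
  rintro ⟨i, u⟩ ⟨j, v⟩ h
  have h' : (f i : G) * (u : G) = (f j : G) * (v : G) := congrArg Subtype.val h
  have key : ∀ (i : Fin n) (u : ↥(D ⊓ Subgroup.centralizer ({e} : Set G))),
      ((f i : G) * (u : G)) * e * ((f i : G) * (u : G))⁻¹ = (f i : G) * e * (f i : G)⁻¹ := by
    intro i u
    have hu := Subgroup.mem_centralizer_singleton_iff.1 u.2.2
    calc ((f i : G) * (u : G)) * e * ((f i : G) * (u : G))⁻¹ = (f i : G) * ((u : G) * e) * (u : G)⁻¹ * (f i : G)⁻¹ := by
          group
      _ = (f i : G) * e * (f i : G)⁻¹ := by rw [hu]; group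
  have h2 : i = j := hf (by
    show (f i : G) * e * (f i : G)⁻¹ = (f j : G) * e * (f j : G)⁻¹
    rw [← key i u, ← key j v, h'])
  subst h2
  rw [Subtype.ext (mul_left_cancel h')]

end Cfsg.Agent.H981.M23.Lev
end

-- part: H981/M23/HNData
section
/-!
# Data for the centralizers in `H0 = 2.HS.2` (generated; helper981)
-/

set_option autoImplicit false
set_option maxRecDepth 100000

namespace Cfsg.Agent.H981.M23.HNData

open Cfsg.Agent.HN.Syl (CT)

/-- word of an element of order 8 with fourth power `τ` -/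
def wE : List ℕ := [0, 2, 0, 2, 4]

/-- its square -/
def wY : List ℕ := [0, 2, 0, 2, 4, 0, 2, 0, 2, 4]

/-- conjugates `e τ` to `e` -/
def w5 : List ℕ := [4, 2, 4, 3, 4, 3, 3, 4, 1, 4, 3, 3, 4, 2, 4, 1, 3, 3, 4, 2]

/-- subtree -/
noncomputable def T0000 : CT :=
  (by
  refine (?fq9001 : ((pk61r (fun r0 j => pk61f j fun i1 => (pk61f (pk61d (nat_lit 6) 
    (nat_lit 0x3ef7cefae7ffb8f7cdf6efad79e34cf2df6c75d30bf3caec70b6caeabeea6db289ebaa6a689648e79a29648608e27e181e75c6da7de65d7185db6966585544d75925544504d23d140e34c2cf38a34c2482ca1c92061441c60c5102043080040) i1) fun u6 => (pk61f (pk61d (nat_lit 1) 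
    (nat_lit 0x7e4c9c993c9939327c99393279327264) i1) fun t1_0 => (pk61c (Nat.div t1_0 (nat_lit 1)) (_root_.Cfsg.Agent.HN.Syl.CT.n (nat_lit 0)) fun _ => (_root_.Cfsg.Agent.HN.Syl.CT.b (r0 (Nat.sub i1 (pk61d (nat_lit 7) 
    (nat_lit 0x101010101010208081080808104040880808081040408404040820204808080808104040840404082020440404040820204202020410102) u6))) (r0 (Nat.sub i1 (nat_lit 1)))))))) (_root_.Cfsg.Agent.HN.Syl.CT.z) (nat_lit 7) (nat_lit 126)) : CT)
    = ?xq9001 → (CT)) ?hq9001; (case hq9001 => (set_option maxRecDepth 1000000 in conv => lhs; reduce)); intro _; exact ?xq9001 : CT)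

/-- subtree -/
noncomputable def T0001 : CT :=
  (by
  refine (?fq9002 : ((pk61r (fun r0 j => pk61f j fun i1 => (pk61f (pk61d (nat_lit 6) 
    (nat_lit 0x3ef7cefae7ffb8f7cdf6efad79e34cf2df6c75d30bf3caec70b6caeabeea6db289ebaa6a689648e79a29648608e27e181e75c6da7de65d7185db6966585544d75925544504d23d140e34c2cf38a34c2482ca1c92061441c60c5102043080040) i1) fun u6 => (pk61f (pk61d (nat_lit 1) 
    (nat_lit 0x7e4c9c993c9939327c99393279327264) i1) fun t1_0 => (pk61c (Nat.div t1_0 (nat_lit 1)) (_root_.Cfsg.Agent.HN.Syl.CT.n (pk61d (nat_lit 2) 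
    (nat_lit 0xffffffffffffffff0000000000000000) u6)) fun _ => (_root_.Cfsg.Agent.HN.Syl.CT.b (r0 (Nat.sub i1 (pk61d (nat_lit 7) 
    (nat_lit 0x101010101010208081080808104040880808081040408404040820204808080808104040840404082020440404040820204202020410102) u6))) (r0 (Nat.sub i1 (nat_lit 1)))))))) (_root_.Cfsg.Agent.HN.Syl.CT.z) (nat_lit 7) (nat_lit 126)) : CT)
    = ?xq9002 → (CT)) ?hq9002; (case hq9002 => (set_option maxRecDepth 1000000 in conv => lhs; reduce)); intro _; exact ?xq9002 : CT)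

/-- subtree -/
noncomputable def T000 : CT := .b T0000 T0001

/-- subtree -/
noncomputable def T0010 : CT :=
  (by
  refine (?fq9003 : ((pk61r (fun r0 j => pk61f j fun i1 => (pk61f (pk61d (nat_lit 6) 
    (nat_lit 0x3ef7cefae7ffb8f7cdf6efad79e34cf2df6c75d30bf3caec70b6caeabeea6db289ebaa6a689648e79a29648608e27e181e75c6da7de65d7185db6966585544d75925544504d23d140e34c2cf38a34c2482ca1c92061441c60c5102043080040) i1) fun u6 => (pk61f (pk61d (nat_lit 1) 
    (nat_lit 0x7e4c9c993c9939327c99393279327264) i1) fun t1_0 => (pk61c (Nat.div t1_0 (nat_lit 1)) (_root_.Cfsg.Agent.HN.Syl.CT.n (pk61d (nat_lit 2) 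
    (nat_lit 0xffffffffffffffff0000000000000000) u6)) fun _ => (_root_.Cfsg.Agent.HN.Syl.CT.b (r0 (Nat.sub i1 (pk61d (nat_lit 7) 
    (nat_lit 0x101010101010208081080808104040880808081040408404040820204808080808104040840404082020440404040820204202020410102) u6))) (r0 (Nat.sub i1 (nat_lit 1)))))))) (_root_.Cfsg.Agent.HN.Syl.CT.z) (nat_lit 7) (nat_lit 126)) : CT)
    = ?xq9003 → (CT)) ?hq9003; (case hq9003 => (set_option maxRecDepth 1000000 in conv => lhs; reduce)); intro _; exact ?xq9003 : CT)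

/-- subtree -/
noncomputable def T0011 : CT :=
  (by
  refine (?fq9004 : ((pk61r (fun r0 j => pk61f j fun i1 => (pk61f (pk61d (nat_lit 6) 
    (nat_lit 0x3ef7cefae7ffb8f7cdf6efad79e34cf2df6c75d30bf3caec70b6caeabeea6db289ebaa6a689648e79a29648608e27e181e75c6da7de65d7185db6966585544d75925544504d23d140e34c2cf38a34c2482ca1c92061441c60c5102043080040) i1) fun u6 => (pk61f (pk61d (nat_lit 1) 
    (nat_lit 0x7e4c9c993c9939327c99393279327264) i1) fun t1_0 => (pk61c (Nat.div t1_0 (nat_lit 1)) (_root_.Cfsg.Agent.HN.Syl.CT.n (nat_lit 0)) fun _ => (_root_.Cfsg.Agent.HN.Syl.CT.b (r0 (Nat.sub i1 (pk61d (nat_lit 7) 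
    (nat_lit 0x101010101010208081080808104040880808081040408404040820204808080808104040840404082020440404040820204202020410102) u6))) (r0 (Nat.sub i1 (nat_lit 1)))))))) (_root_.Cfsg.Agent.HN.Syl.CT.z) (nat_lit 7) (nat_lit 126)) : CT)
    = ?xq9004 → (CT)) ?hq9004; (case hq9004 => (set_option maxRecDepth 1000000 in conv => lhs; reduce)); intro _; exact ?xq9004 : CT)

/-- subtree -/
noncomputable def T001 : CT := .b T0010 T0011

/-- subtree -/
noncomputable def T00 : CT := .b T000 T001

/-- subtree -/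
noncomputable def T0100 : CT :=
  (by
  refine (?fq9005 : ((pk61r (fun r0 j => pk61f j fun i1 => (pk61f (pk61d (nat_lit 6) 
    (nat_lit 0x3ef7cefae7ffb8f7cdf6efad79e34cf2df6c75d30bf3caec70b6caeabeea6db289ebaa6a689648e79a29648608e27e181e75c6da7de65d7185db6966585544d75925544504d23d140e34c2cf38a34c2482ca1c92061441c60c5102043080040) i1) fun u6 => (pk61f (pk61d (nat_lit 1) 
    (nat_lit 0x7e4c9c993c9939327c99393279327264) i1) fun t1_0 => (pk61c (Nat.div t1_0 (nat_lit 1)) (_root_.Cfsg.Agent.HN.Syl.CT.n (nat_lit 0)) fun _ => (_root_.Cfsg.Agent.HN.Syl.CT.b (r0 (Nat.sub i1 (pk61d (nat_lit 7) 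
    (nat_lit 0x101010101010208081080808104040880808081040408404040820204808080808104040840404082020440404040820204202020410102) u6))) (r0 (Nat.sub i1 (nat_lit 1)))))))) (_root_.Cfsg.Agent.HN.Syl.CT.z) (nat_lit 7) (nat_lit 126)) : CT)
    = ?xq9005 → (CT)) ?hq9005; (case hq9005 => (set_option maxRecDepth 1000000 in conv => lhs; reduce)); intro _; exact ?xq9005 : CT)

/-- subtree -/
noncomputable def T0101 : CT :=
  (by
  refine (?fq9006 : ((pk61r (fun r0 j => pk61f j fun i1 => (pk61f (pk61d (nat_lit 6) 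
    (nat_lit 0x3ef7cefae7ffb8f7cdf6efad79e34cf2df6c75d30bf3caec70b6caeabeea6db289ebaa6a689648e79a29648608e27e181e75c6da7de65d7185db6966585544d75925544504d23d140e34c2cf38a34c2482ca1c92061441c60c5102043080040) i1) fun u6 => (pk61f (pk61d (nat_lit 1) 
    (nat_lit 0x7e4c9c993c9939327c99393279327264) i1) fun t1_0 => (pk61c (Nat.div t1_0 (nat_lit 1)) (_root_.Cfsg.Agent.HN.Syl.CT.n (nat_lit 0)) fun _ => (_root_.Cfsg.Agent.HN.Syl.CT.b (r0 (Nat.sub i1 (pk61d (nat_lit 7) 
    (nat_lit 0x101010101010208081080808104040880808081040408404040820204808080808104040840404082020440404040820204202020410102) u6))) (r0 (Nat.sub i1 (nat_lit 1)))))))) (_root_.Cfsg.Agent.HN.Syl.CT.z) (nat_lit 7) (nat_lit 126)) : CT)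
    = ?xq9006 → (CT)) ?hq9006; (case hq9006 => (set_option maxRecDepth 1000000 in conv => lhs; reduce)); intro _; exact ?xq9006 : CT)

/-- subtree -/
noncomputable def T010 : CT := .b T0100 T0101

/-- subtree -/
noncomputable def T0110 : CT :=
  (by
  refine (?fq9007 : ((pk61r (fun r0 j => pk61f j fun i1 => (pk61f (pk61d (nat_lit 6) 
    (nat_lit 0x3ef7cefae7ffb8f7cdf6efad79e34cf2df6c75d30bf3caec70b6caeabeea6db289ebaa6a689648e79a29648608e27e181e75c6da7de65d7185db6966585544d75925544504d23d140e34c2cf38a34c2482ca1c92061441c60c5102043080040) i1) fun u6 => (pk61f (pk61d (nat_lit 1) 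
    (nat_lit 0x7e4c9c993c9939327c99393279327264) i1) fun t1_0 => (pk61c (Nat.div t1_0 (nat_lit 1)) (_root_.Cfsg.Agent.HN.Syl.CT.n (nat_lit 0)) fun _ => (_root_.Cfsg.Agent.HN.Syl.CT.b (r0 (Nat.sub i1 (pk61d (nat_lit 7) 
    (nat_lit 0x101010101010208081080808104040880808081040408404040820204808080808104040840404082020440404040820204202020410102) u6))) (r0 (Nat.sub i1 (nat_lit 1)))))))) (_root_.Cfsg.Agent.HN.Syl.CT.z) (nat_lit 7) (nat_lit 126)) : CT)
    = ?xq9007 → (CT)) ?hq9007; (case hq9007 => (set_option maxRecDepth 1000000 in conv => lhs; reduce)); intro _; exact ?xq9007 : CT)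

/-- subtree -/
noncomputable def T0111 : CT :=
  (by
  refine (?fq9008 : ((pk61r (fun r0 j => pk61f j fun i1 => (pk61f (pk61d (nat_lit 6) 
    (nat_lit 0x3ef7cefae7ffb8f7cdf6efad79e34cf2df6c75d30bf3caec70b6caeabeea6db289ebaa6a689648e79a29648608e27e181e75c6da7de65d7185db6966585544d75925544504d23d140e34c2cf38a34c2482ca1c92061441c60c5102043080040) i1) fun u6 => (pk61f (pk61d (nat_lit 1) 
    (nat_lit 0x7e4c9c993c9939327c99393279327264) i1) fun t1_0 => (pk61c (Nat.div t1_0 (nat_lit 1)) (_root_.Cfsg.Agent.HN.Syl.CT.n (nat_lit 0)) fun _ => (_root_.Cfsg.Agent.HN.Syl.CT.b (r0 (Nat.sub i1 (pk61d (nat_lit 7) 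
    (nat_lit 0x101010101010208081080808104040880808081040408404040820204808080808104040840404082020440404040820204202020410102) u6))) (r0 (Nat.sub i1 (nat_lit 1)))))))) (_root_.Cfsg.Agent.HN.Syl.CT.z) (nat_lit 7) (nat_lit 126)) : CT)
    = ?xq9008 → (CT)) ?hq9008; (case hq9008 => (set_option maxRecDepth 1000000 in conv => lhs; reduce)); intro _; exact ?xq9008 : CT)

/-- subtree -/
noncomputable def T011 : CT := .b T0110 T0111

/-- subtree -/
noncomputable def T01 : CT := .b T010 T011

/-- subtree -/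
noncomputable def T0 : CT := .b T00 T01

/-- subtree -/
noncomputable def T1000 : CT :=
  (by
  refine (?fq9009 : ((pk61r (fun r0 j => pk61f j fun i1 => (pk61f (pk61d (nat_lit 6) 
    (nat_lit 0x3ef7cefae7ffb8f7cdf6efad79e34cf2df6c75d30bf3caec70b6caeabeea6db289ebaa6a689648e79a29648608e27e181e75c6da7de65d7185db6966585544d75925544504d23d140e34c2cf38a34c2482ca1c92061441c60c5102043080040) i1) fun u6 => (pk61f (pk61d (nat_lit 1) 
    (nat_lit 0x7e4c9c993c9939327c99393279327264) i1) fun t1_0 => (pk61c (Nat.div t1_0 (nat_lit 1)) (_root_.Cfsg.Agent.HN.Syl.CT.n (pk61d (nat_lit 2) 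
    (nat_lit 0xffff0000ffff0000ffff0000ffff0000) u6)) fun _ => (_root_.Cfsg.Agent.HN.Syl.CT.b (r0 (Nat.sub i1 (pk61d (nat_lit 7) 
    (nat_lit 0x101010101010208081080808104040880808081040408404040820204808080808104040840404082020440404040820204202020410102) u6))) (r0 (Nat.sub i1 (nat_lit 1)))))))) (_root_.Cfsg.Agent.HN.Syl.CT.z) (nat_lit 7) (nat_lit 126)) : CT)
    = ?xq9009 → (CT)) ?hq9009; (case hq9009 => (set_option maxRecDepth 1000000 in conv => lhs; reduce)); intro _; exact ?xq9009 : CT)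

/-- subtree -/
noncomputable def T1001 : CT :=
  (by
  refine (?fq9010 : ((pk61r (fun r0 j => pk61f j fun i1 => (pk61f (pk61d (nat_lit 6) 
    (nat_lit 0x3ef7cefae7ffb8f7cdf6efad79e34cf2df6c75d30bf3caec70b6caeabeea6db289ebaa6a689648e79a29648608e27e181e75c6da7de65d7185db6966585544d75925544504d23d140e34c2cf38a34c2482ca1c92061441c60c5102043080040) i1) fun u6 => (pk61f (pk61d (nat_lit 1) 
    (nat_lit 0x7e4c9c993c9939327c99393279327264) i1) fun t1_0 => (pk61c (Nat.div t1_0 (nat_lit 1)) (_root_.Cfsg.Agent.HN.Syl.CT.n (pk61d (nat_lit 2) 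
    (nat_lit 0xffff0000ffff00000000ffff0000ffff) u6)) fun _ => (_root_.Cfsg.Agent.HN.Syl.CT.b (r0 (Nat.sub i1 (pk61d (nat_lit 7) 
    (nat_lit 0x101010101010208081080808104040880808081040408404040820204808080808104040840404082020440404040820204202020410102) u6))) (r0 (Nat.sub i1 (nat_lit 1)))))))) (_root_.Cfsg.Agent.HN.Syl.CT.z) (nat_lit 7) (nat_lit 126)) : CT)
    = ?xq9010 → (CT)) ?hq9010; (case hq9010 => (set_option maxRecDepth 1000000 in conv => lhs; reduce)); intro _; exact ?xq9010 : CT)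

/-- subtree -/
noncomputable def T100 : CT := .b T1000 T1001

/-- subtree -/
noncomputable def T1010 : CT :=
  (by
  refine (?fq9011 : ((pk61r (fun r0 j => pk61f j fun i1 => (pk61f (pk61d (nat_lit 6) 
    (nat_lit 0x3ef7cefae7ffb8f7cdf6efad79e34cf2df6c75d30bf3caec70b6caeabeea6db289ebaa6a689648e79a29648608e27e181e75c6da7de65d7185db6966585544d75925544504d23d140e34c2cf38a34c2482ca1c92061441c60c5102043080040) i1) fun u6 => (pk61f (pk61d (nat_lit 1) 
    (nat_lit 0x7e4c9c993c9939327c99393279327264) i1) fun t1_0 => (pk61c (Nat.div t1_0 (nat_lit 1)) (_root_.Cfsg.Agent.HN.Syl.CT.n (pk61d (nat_lit 2) 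
    (nat_lit 0xffff0000ffff00000000ffff0000ffff) u6)) fun _ => (_root_.Cfsg.Agent.HN.Syl.CT.b (r0 (Nat.sub i1 (pk61d (nat_lit 7) 
    (nat_lit 0x101010101010208081080808104040880808081040408404040820204808080808104040840404082020440404040820204202020410102) u6))) (r0 (Nat.sub i1 (nat_lit 1)))))))) (_root_.Cfsg.Agent.HN.Syl.CT.z) (nat_lit 7) (nat_lit 126)) : CT)
    = ?xq9011 → (CT)) ?hq9011; (case hq9011 => (set_option maxRecDepth 1000000 in conv => lhs; reduce)); intro _; exact ?xq9011 : CT)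

/-- subtree -/
noncomputable def T1011 : CT :=
  (by
  refine (?fq9012 : ((pk61r (fun r0 j => pk61f j fun i1 => (pk61f (pk61d (nat_lit 6) 
    (nat_lit 0x3ef7cefae7ffb8f7cdf6efad79e34cf2df6c75d30bf3caec70b6caeabeea6db289ebaa6a689648e79a29648608e27e181e75c6da7de65d7185db6966585544d75925544504d23d140e34c2cf38a34c2482ca1c92061441c60c5102043080040) i1) fun u6 => (pk61f (pk61d (nat_lit 1) 
    (nat_lit 0x7e4c9c993c9939327c99393279327264) i1) fun t1_0 => (pk61c (Nat.div t1_0 (nat_lit 1)) (_root_.Cfsg.Agent.HN.Syl.CT.n (pk61d (nat_lit 2) 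
    (nat_lit 0xffff0000ffff0000ffff0000ffff0000) u6)) fun _ => (_root_.Cfsg.Agent.HN.Syl.CT.b (r0 (Nat.sub i1 (pk61d (nat_lit 7) 
    (nat_lit 0x101010101010208081080808104040880808081040408404040820204808080808104040840404082020440404040820204202020410102) u6))) (r0 (Nat.sub i1 (nat_lit 1)))))))) (_root_.Cfsg.Agent.HN.Syl.CT.z) (nat_lit 7) (nat_lit 126)) : CT)
    = ?xq9012 → (CT)) ?hq9012; (case hq9012 => (set_option maxRecDepth 1000000 in conv => lhs; reduce)); intro _; exact ?xq9012 : CT)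

/-- subtree -/
noncomputable def T101 : CT := .b T1010 T1011

/-- subtree -/
noncomputable def T10 : CT := .b T100 T101

/-- subtree -/
noncomputable def T1100 : CT :=
  (by
  refine (?fq9013 : ((pk61r (fun r0 j => pk61f j fun i1 => (pk61f (pk61d (nat_lit 6) 
    (nat_lit 0x3ef7cefae7ffb8f7cdf6efad79e34cf2df6c75d30bf3caec70b6caeabeea6db289ebaa6a689648e79a29648608e27e181e75c6da7de65d7185db6966585544d75925544504d23d140e34c2cf38a34c2482ca1c92061441c60c5102043080040) i1) fun u6 => (pk61f (pk61d (nat_lit 1) 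
    (nat_lit 0x7e4c9c993c9939327c99393279327264) i1) fun t1_0 => (pk61c (Nat.div t1_0 (nat_lit 1)) (_root_.Cfsg.Agent.HN.Syl.CT.n (nat_lit 0)) fun _ => (_root_.Cfsg.Agent.HN.Syl.CT.b (r0 (Nat.sub i1 (pk61d (nat_lit 7) 
    (nat_lit 0x101010101010208081080808104040880808081040408404040820204808080808104040840404082020440404040820204202020410102) u6))) (r0 (Nat.sub i1 (nat_lit 1)))))))) (_root_.Cfsg.Agent.HN.Syl.CT.z) (nat_lit 7) (nat_lit 126)) : CT)
    = ?xq9013 → (CT)) ?hq9013; (case hq9013 => (set_option maxRecDepth 1000000 in conv => lhs; reduce)); intro _; exact ?xq9013 : CT)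

/-- subtree -/
noncomputable def T1101 : CT :=
  (by
  refine (?fq9014 : ((pk61r (fun r0 j => pk61f j fun i1 => (pk61f (pk61d (nat_lit 6) 
    (nat_lit 0x3ef7cefae7ffb8f7cdf6efad79e34cf2df6c75d30bf3caec70b6caeabeea6db289ebaa6a689648e79a29648608e27e181e75c6da7de65d7185db6966585544d75925544504d23d140e34c2cf38a34c2482ca1c92061441c60c5102043080040) i1) fun u6 => (pk61f (pk61d (nat_lit 1) 
    (nat_lit 0x7e4c9c993c9939327c99393279327264) i1) fun t1_0 => (pk61c (Nat.div t1_0 (nat_lit 1)) (_root_.Cfsg.Agent.HN.Syl.CT.n (nat_lit 0)) fun _ => (_root_.Cfsg.Agent.HN.Syl.CT.b (r0 (Nat.sub i1 (pk61d (nat_lit 7) 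
    (nat_lit 0x101010101010208081080808104040880808081040408404040820204808080808104040840404082020440404040820204202020410102) u6))) (r0 (Nat.sub i1 (nat_lit 1)))))))) (_root_.Cfsg.Agent.HN.Syl.CT.z) (nat_lit 7) (nat_lit 126)) : CT)
    = ?xq9014 → (CT)) ?hq9014; (case hq9014 => (set_option maxRecDepth 1000000 in conv => lhs; reduce)); intro _; exact ?xq9014 : CT)

/-- subtree -/
noncomputable def T110 : CT := .b T1100 T1101

/-- subtree -/
noncomputable def T1110 : CT :=
  (by
  refine (?fq9015 : ((pk61r (fun r0 j => pk61f j fun i1 => (pk61f (pk61d (nat_lit 6) 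
    (nat_lit 0x3ef7cefae7ffb8f7cdf6efad79e34cf2df6c75d30bf3caec70b6caeabeea6db289ebaa6a689648e79a29648608e27e181e75c6da7de65d7185db6966585544d75925544504d23d140e34c2cf38a34c2482ca1c92061441c60c5102043080040) i1) fun u6 => (pk61f (pk61d (nat_lit 1) 
    (nat_lit 0x7e4c9c993c9939327c99393279327264) i1) fun t1_0 => (pk61c (Nat.div t1_0 (nat_lit 1)) (_root_.Cfsg.Agent.HN.Syl.CT.i (nat_lit 0) (pk61d (nat_lit 103) 
    (nat_lit 0x4a28a48a8d86e38dc4a28d9400000151228b61c66289451b28546d96db8ca0a15028916cc488004b6cc4836596185122d9891151b65b6e32828540e38d966280012db3120d965861c71b2cc500c51b65451989428388c6dc65000000546d96dc61b7118db8ca02a36cb6dc6c381b65b2a22a2800000a8e24916e38cb654454500005b6624a22d98928e38cc6c8000a8d98a370b71c48c7198d9000a8d98a370c6e38a231971940000018a36ca8a18e381b2e328016d989288a88a2822946cc6c800017144a28946195128d98d900628db2a28cc4a385c6e22e3200000151b65b7186cb8dc45c64000547124a289461b6528db2e0c51b65450c71c0e06ca51b65c000000151c4922dc71c4a28d9400000000b8a245b8e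389451b280000000000000000b7144a22a017144a251b2a24a38e2894454000000000000000000148a88a98a36ca85c4546e371c49151150000002e28944a28e18946cc6c8005c5128dc70b8823128d98d900546d96db8d87036ca51c6ca32db3120d96586cb8d94a38d944000000628db2a28a32e38cc6c800002a38925128a385c7198d9000a89145b0e331250a51b31b200000025b66241b2cb0a3663640000000c51c6e371c48c65c65017144a28946195197118cb8ca00000546632a051b65b2a22a2800000004b6cc4836cb654454500000b29151b0dc2a04638cc6c8000151229461b65871c7198d9000000b31c4a38904a245b31220000000018a36ca8a248b662440b6cc49445b3124237128a3650000b2cb0db66241c6e25146ca00000002cc7128e24238d966280000018a36ca8a28dc71b2cc50000002e28946e38a388c6dc65096d98906cb2c365c7118db8ca03146d951451965c6ca51c6ca200171188a8146cb8d94a38d9440b6cc4928e389461b2e38cc6c8000005948a8d86e151c7198d9000005c5128a251865251b31b205b6624a22a228a08c4a3663640000a89145b0e33125122a22a000000017144a2514282454454000b8a251b8e171045c6e22e3225b66241b2cb0e30cb8dc45c64003146d951451965c6528db2e0000000b8a251b8e171251b65c000000031471b8dc71c51288a97144a289461951971b8a2511500025b66241b2cb0c37128a3650000000000005448a2d85146ca)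 u6)) fun _ => (_root_.Cfsg.Agent.HN.Syl.CT.b (r0 (Nat.sub i1 (pk61d (nat_lit 7) 
    (nat_lit 0x101010101010208081080808104040880808081040408404040820204808080808104040840404082020440404040820204202020410102) u6))) (r0 (Nat.sub i1 (nat_lit 1)))))))) (_root_.Cfsg.Agent.HN.Syl.CT.z) (nat_lit 7) (nat_lit 126)) : CT)
    = ?xq9015 → (CT)) ?hq9015; (case hq9015 => (set_option maxRecDepth 1000000 in conv => lhs; reduce)); intro _; exact ?xq9015 : CT)

/-- subtree -/
noncomputable def T1111 : CT :=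
  (by
  refine (?fq9016 : ((pk61r (fun r0 j => pk61f j fun i1 => (pk61f (pk61d (nat_lit 6) 
    (nat_lit 0x3ef7cefae7ffb8f7cdf6efad79e34cf2df6c75d30bf3caec70b6caeabeea6db289ebaa6a689648e79a29648608e27e181e75c6da7de65d7185db6966585544d75925544504d23d140e34c2cf38a34c2482ca1c92061441c60c5102043080040) i1) fun u6 => (pk61f (pk61d (nat_lit 1) 
    (nat_lit 0x7e4c9c993c9939327c99393279327264) i1) fun t1_0 => (pk61c (Nat.div t1_0 (nat_lit 1)) (_root_.Cfsg.Agent.HN.Syl.CT.n (nat_lit 0)) fun _ => (_root_.Cfsg.Agent.HN.Syl.CT.b (r0 (Nat.sub i1 (pk61d (nat_lit 7) 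
    (nat_lit 0x101010101010208081080808104040880808081040408404040820204808080808104040840404082020440404040820204202020410102) u6))) (r0 (Nat.sub i1 (nat_lit 1)))))))) (_root_.Cfsg.Agent.HN.Syl.CT.z) (nat_lit 7) (nat_lit 126)) : CT)
    = ?xq9016 → (CT)) ?hq9016; (case hq9016 => (set_option maxRecDepth 1000000 in conv => lhs; reduce)); intro _; exact ?xq9016 : CT)

/-- subtree -/
noncomputable def T111 : CT := .b T1110 T1111

/-- subtree -/
noncomputable def T11 : CT := .b T110 T111

/-- subtree -/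
noncomputable def T1 : CT := .b T10 T11

/-- subtree -/
noncomputable def T : CT := .b T0 T1

/-- the centralizer of `y` -/
noncomputable def cy : List (ℕ × List (List ℕ)) :=
  (by
  refine (?fq9017 : ((pk61l (fun i1 => (_root_.Prod.mk (pk61d (nat_lit 8) 
    (nat_lit 0x7a9332d) i1) ((fun g1 : Nat → Nat => pk61l (fun i2 => ((fun g2 : Nat → Nat => pk61l (fun i3 => (pk61d (nat_lit 3) 
    (nat_lit 0x65861c7118a281465141046388c5140a365861865861c7118a281462388c5140a328a08245b11248a08245405c4a071b8a381150441048a8dc71b8e24540e28906e38a32e208b11b8147184947238a251b6e28c02c38a38e30844a37146e248a5186c251b8e211842251a8dc7108c28128d22a24824a32c385c4a06e36224832c30c22dc09205141048b7024828914a30db8828ca4546c370a81b88a4186e15024544904942a051c71842251a8e38c28128cb6e04838820630e36c44918c38db81251471b8dc71289451c6e04a24528c36128cc49451c6a371c41451a45449049468c4528a30db2e20d88926dc09171045141051040b88c4a051a8cc6e071065861c61b6e04940228d889461b70241a2d889208b7024838a371465b70241b6e04948db11251b7024a32e209971050461961c454110400)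 i3)) (g2 i2) (g2 (Nat.succ i2)) List.nil) fun j => (pk61d (nat_lit 10) 
    (nat_lit 0xcf31fc22f3b92dcb72c7adaacab297a0a6e9725c922348860e7ede975dc56cda2645805c56254d454dd2946d0d3fcf138cd5320bb2b8a1250891f8731a45f1544b104380bc26078160440c01c0200000) j))) (g1 i1) (g1 (Nat.succ i1)) List.nil) fun j => (pk61d (nat_lit 6) 
    (nat_lit 0x3fe75c00) j)))) (nat_lit 0) (nat_lit 4) List.nil) : List (ℕ × List (List ℕ)))
    = ?xq9017 → (List (ℕ × List (List ℕ)))) ?hq9017; (case hq9017 => (set_option maxRecDepth 1000000 in conv => lhs; reduce)); intro _; exact ?xq9017 : List (ℕ × List (List ℕ)))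

/-- the centralizer of `e` -/
noncomputable def ce : List (ℕ × List (List ℕ)) :=
  (by
  refine (?fq9018 : ((pk61l (fun i1 => (_root_.Prod.mk (pk61d (nat_lit 4) 
    (nat_lit 0x807) i1) ((fun g1 : Nat → Nat => pk61l (fun i2 => ((fun g2 : Nat → Nat => pk61l (fun i3 => (pk61d (nat_lit 3) 
    (nat_lit 0x4541104196186c38cb0c38c22a24824a351c71849470b6e04836586188828c471c6140a38c28128db88a4186e36e229061b8e32e209971050461961c454110400) i3)) (g2 i2) (g2 (Nat.succ i2)) List.nil) fun j => (pk61d (nat_lit 8) 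
    (nat_lit 0xaca2a280604226261e16110c07020000) j))) (g1 i1) (g1 (Nat.succ i1)) List.nil) fun j => (pk61d (nat_lit 4) 
    (nat_lit 0xfd80) j)))) (nat_lit 0) (nat_lit 3) List.nil) : List (ℕ × List (List ℕ)))
    = ?xq9018 → (List (ℕ × List (List ℕ)))) ?hq9018; (case hq9018 => (set_option maxRecDepth 1000000 in conv => lhs; reduce)); intro _; exact ?xq9018 : List (ℕ × List (List ℕ)))

/-- the square roots of `y` -/
noncomputable def rts : List (List ℕ) :=
  (by
  refine (?fq9019 : ((pk61l (fun i1 => ((fun g1 : Nat → Nat => pk61l (fun i2 => (pk61d (nat_lit 3) (Nat.add 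
    (nat_lit 0xca85c4546e371c4dc4520c371c6dc0928820db31251448a2d87127146dc6128dc6e38a20838a25128d951251c5105184546e38dc7144107144a289461951971151b70241c6dc0928820db3125116cc49461a3118a28238c24a04228db2a28638e07033188cb0a24904947104146d96db8ca0a15022a228248a8d86e38820a24528c36cb0e30d151141048b70248441b3120d965871871048a08245b8124220d98906cb2c365c5198c28238c24a04228db2a28632a051a8dc71050c6e071088446250465c5128d22a371451b6e04944106d989251c7128c36588dc0a38c24a04228db2a28cc4a14238a25044a38128e20828d98a370c6e38a32c30e30e36e04944106d989288a88a28251c7184a371b8e28820e28944a365451466308a8dc71b8e28820e28945128c32a051b8e211850251c41051b31950b8a251c4107144a251408451c6e371c4597228dc0a38c24a04228db2a28cc4a391041471c6125021146d951451965c8db8144520c371c41051228b61c6624a16dc09071b7024a20836cc49445b3124146585124824a38820a36cb6dc65051b8a242251c0947104146cc51b85b8e28a38dc1128a04228e370c4a28e47144a089450211471b86371c5122a371c6db8a38820a38925144a30db2e21144a371c51041c5128dc70b88251b8e21184940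8451b6542e28946514124546c371c41051229461b65861188a5124824a38820a36cb6dc6c381a2a071448371c51041c5122dc7118c38820e28906e38a20838a245b8e22cb88b70251281b81c41046246371b3120ca2820916e049088366241b2cb0c231281b8dc0907104116cc4a246370351229461b6186220914524546c37196dc0906514105104196586116cc4902c37144a371c51041c5128dc7122818c448a5186c28820ca4546c370a80c6238e30928108a36ca8a28541104a33187038a208388c4540a365c7144a251c0947104146cc51b8dc7124546e38dc7144107144a289461b8a38dc6db8a38820a38925128a391c5128db7147104147124a371c5116e04922820a20832cb0db6624196238dc6e38a20838a25128a141471c6140947104146cc6545146e28906db8a38820a389245b8e28a38dc6e38a20838a25128a391c5128dc7144107144a371c51c51289450211471b8dc7128e38c24a04228db2a28a37144a371c48211c5128dc7137114830dc71041448a2d871248a8920928e20828db2db8c36cb7146e281441066389471209151b70241c41045b3125186a33185028e20828cc6540a371448371c51041c5122dc7114a28dc5128820dc7128e36128a371448441c7128e371048a0828820cb2c365c45b8124220d98906e28dc51c41051c4a389b7024904236cc4946dc0928820db31250a2820a20832cb0c4410)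 (Nat.shiftLeft 
    (nat_lit 0x1c51289461c4230928108a36) (nat_lit 8000))) i2)) (g1 i1) (g1 (Nat.succ i1)) List.nil) fun j => (pk61d (nat_lit 12) 
    (nat_lit 0xa8aa57a249f39c29919649359068db8b088585a82b8027d57a877b7507256fe6d76b068565a6316085e55c259957054b5224f94d04a747e4594304093e03b939236f3483212fc2d72b228d26a2472242031e21c51a81891681471261070e80c90aa08f07405f04603101a005000) j))) (nat_lit 0) (nat_lit 72) List.nil) : List (List ℕ))
    = ?xq9019 → (List (List ℕ))) ?hq9019; (case hq9019 => (set_option maxRecDepth 1000000 in set_option simprocs false in conv => lhs; reduce; dsimp only)); intro _; exact ?xq9019 : List (List ℕ))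

/-- conjugating words for the Sylow 3-subgroup -/
noncomputable def cj3 : List (List ℕ) :=
  (by
  refine (?fq9020 : ((pk61l (fun i1 => ((fun g1 : Nat → Nat => pk61l (fun i2 => (pk61d (nat_lit 3) 
    (nat_lit 0x2db2d971b2cb70b2cb65965b65b3198e38db3196596cb2db8e38e38db2cc3198e38db8cc6cc65c71b2cb6cb65b) i2)) (g1 i1) (g1 (Nat.succ i1)) List.nil) fun j => (pk61d (nat_lit 7) 
    (nat_lit 0x78cd522b85068500) j))) (nat_lit 0) (nat_lit 8) List.nil) : List (List ℕ))
    = ?xq9020 → (List (List ℕ))) ?hq9020; (case hq9020 => (set_option maxRecDepth 1000000 in set_option simprocs false in conv => lhs; reduce; dsimp only)); intro _; exact ?xq9020 : List (List ℕ))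

/-- the centralizer of `s` -/
noncomputable def cs : List (ℕ × List (List ℕ)) :=
  (by
  refine (?fq9021 : ((pk61l (fun i1 => (_root_.Prod.mk (pk61d (nat_lit 9) 
    (nat_lit 0x1e08005b) i1) ((fun g1 : Nat → Nat => pk61l (fun i2 => ((fun g2 : Nat → Nat => pk61l (fun i3 => (pk61d (nat_lit 3) 
    (nat_lit 0x51b6e251289251b8925124a28db71289449251b6e25128925196db2946e241c48241465b6ca51b89071209049241c6dc71451401c6dc71451405b2cb7120e24121196db2940824005196db2940824128cb6d94a041200465b6ca5020905196db2940824120d96e241205b2dc48241241b2dc48240b65b8904820d96e241205b2dc48241211281280c4a04a049089409406250250211281280c4a04a0012012402) i3)) (g2 i2) (g2 (Nat.succ i2)) List.nil) fun j => (pk61d (nat_lit 9) 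
    (nat_lit 0x1acce633197cb7db2d9519b48e27137fbadb0c559a8926843b1a0b64e210d856200b0301005018040000) j))) (g1 i1) (g1 (Nat.succ i1)) List.nil) fun j => (pk61d (nat_lit 6) 
    (nat_lit 0x2485d600) j)))) (nat_lit 0) (nat_lit 4) List.nil) : List (ℕ × List (List ℕ)))
    = ?xq9021 → (List (ℕ × List (List ℕ)))) ?hq9021; (case hq9021 => (set_option maxRecDepth 1000000 in set_option simprocs false in conv => lhs; reduce; dsimp only)); intro _; exact ?xq9021 : List (ℕ × List (List ℕ)))

/-- word of an element of order 3 commuting with `y` -/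
def w1 : List ℕ := [4, 2, 4, 3, 4, 3, 3, 4, 2, 2, 4, 2, 4, 3]

/-- word of an element of order 3 commuting with `y` -/
def w2 : List ℕ := [2, 0, 2, 0, 2, 1, 2, 2, 4, 3, 3, 0, 4, 2, 4, 2, 2, 4, 3, 4, 2, 4, 1]

/-- conjugating words for the Sylow 3-subgroup of the centralizer of `y` -/
noncomputable def cj12 : List (List ℕ) :=
  (by
  refine (?fq9022 : ((pk61l (fun i1 => ((fun g1 : Nat → Nat => pk61l (fun i2 => (pk61d (nat_lit 3) 
    (nat_lit 0x1b6624a22d98920ca4546c370a8198e251c4823188db2db8c366311228b61c4946cc6545146597228db2a17144a3) i2)) (g1 i1) (g1 (Nat.succ i1)) List.nil) fun j => (pk61d (nat_lit 7) 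
    (nat_lit 0x7acf5a4374c98900) j))) (nat_lit 0) (nat_lit 8) List.nil) : List (List ℕ))
    = ?xq9022 → (List (List ℕ))) ?hq9022; (case hq9022 => (set_option maxRecDepth 1000000 in set_option simprocs false in conv => lhs; reduce; dsimp only)); intro _; exact ?xq9022 : List (List ℕ))

/-- conjugates of `s1` in the centralizer of `y` -/
noncomputable def cl1 : List (List ℕ) :=
  (by
  refine (?fq9023 : ((pk61l (fun i1 => ((fun g1 : Nat → Nat => pk61l (fun i2 => (pk61d (nat_lit 3) 
    (nat_lit 0x18c47124a371c50c61a31231b8914504630d46cc65450c71c0e071b66249448a2d87123188e24946e389140c6236cb6e30d965c2cb7144a371c45970b31c6e18dc7122818c448a5186dc4143188914a30db2c30597147124a371c5146632a06cb6e30d97118940d96dc61b3188e24944a28502cb8e28944a28506522a361b85465c51b31951451965c2cc71b8dc71165c8db31251148a2826d989288a88a2827144a251b2a28a36522a361b7128e22db3120cb6cc48345b3124116cc49065c4128db2a28a32cc71b86251428289145b0e24630cc6238925128a386311c4928dc7146d989288b6624818c38a38dc6e388b2e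38a251b8e285971448a2d871251b65b6e32828cb31c6e189451c2cc71b86371c5147124a289461b51b31951450a8228db2a17144a351b65b6e361c0d18918dc6cc48346246371228a08b6cc48365961845b3128918dc0e32e248a8d86e36522a361b8541146d951450a80b8918e37147028d98a371b8e231889145b0e246311b65b7186cb2dc5128dc7128d98ca8a28cb31c6e371c51b66248b2e22e389471b8ca4546c371c51c6e371c5146d951451a89145b0e24a331c70381a45471b0e06cc7128e24122d98928c365c41b3124a33195028d18a37147018a389470346246371088a4514128d989470b6cc48351c4a38916cc4908db3124db31251965860c61965c) i2)) (g1 i1) (g1 (Nat.succ i1)) List.nil) fun j => (pk61d (nat_lit 11) 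
    (nat_lit 0x535a3b41a77cd89852b24b4818d915e2142d831011f83dc790ed1d038c6f0d91a833c650c55812ef5b8b255b2a35209f93625a4908d9122124007b8ee1ca37069ccb1852e858ca914126448c8a9071f23ac6e8cf1822cc528981161f8388640b01342103805c0900d81201401400000) j))) (nat_lit 0) (nat_lit 80) List.nil) : List (List ℕ))
    = ?xq9023 → (List (List ℕ))) ?hq9023; (case hq9023 => (set_option maxRecDepth 1000000 in set_option simprocs false in conv => lhs; reduce; dsimp only)); intro _; exact ?xq9023 : List (List ℕ))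

/-- the centralizer of `y` and `s1` -/
noncomputable def cys : List (ℕ × List (List ℕ)) :=
  (by
  refine (?fq9024 : ((pk61l (fun i1 => (_root_.Prod.mk (pk61d (nat_lit 8) 
    (nat_lit 0x2da8) i1) ((fun g1 : Nat → Nat => pk61l (fun i2 => ((fun g2 : Nat → Nat => pk61l (fun i3 => (pk61d (nat_lit 3) 
    (nat_lit 0x65861851b8e20a28540628e25140dc48a0828e28946e389c5128dc7146586184541104196186c38630c228441428a1105115022a0882110400) i3)) (g2 i2) (g2 (Nat.succ i2)) List.nil) fun j => (pk61d (nat_lit 8) 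
    (nat_lit 0x987f68685a4c4c3a2a20160c020000) j))) (g1 i1) (g1 (Nat.succ i1)) List.nil) fun j => (pk61d (nat_lit 4) 
    (nat_lit 0xeb80) j)))) (nat_lit 0) (nat_lit 3) List.nil) : List (ℕ × List (List ℕ)))
    = ?xq9024 → (List (ℕ × List (List ℕ)))) ?hq9024; (case hq9024 => (set_option maxRecDepth 1000000 in conv => lhs; reduce)); intro _; exact ?xq9024 : List (ℕ × List (List ℕ)))

end Cfsg.Agent.H981.M23.HNData
end

-- part: H981/M23/HNTwoA
section
/-!
# Elements of `H0 = 2.HS.2` above `τ` (helper981, facts for (M,23))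

In `H0`: `conj_E` the elements with `g ^ 4 = τ` are conjugate to `E`, `|C(E)| = 80`; `ne_sixteen` no element with `g ^ 8 = τ`;
`|C(y)| = 5760` for `y ^ 2 = τ`; one class of elements of order 3, `|C(s)| = 1440`; `g ^ 3 = τ`, `g ^ 6 = τ` of order 12.
-/

set_option autoImplicit false
set_option maxRecDepth 100000

namespace Cfsg.Agent.H981.M23.HNTwoA

open Cfsg.Agent.HN.Pres Cfsg.Agent.HN.P1408 Cfsg.Agent.HN.H0Basic Cfsg.Agent.HN.PC
open Cfsg.Agent.HN.Syl
open Cfsg.Agent.SporadicA.PermTab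
open Lev HNData

/-- decoding of words -/
def dec (n : ℕ) : List ℕ :=
  Nat.rec (motive := fun _ => ℕ → List ℕ) (fun _ => [])
    (fun _ ih n => cond (Nat.blt n 8) [] (Nat.land n 7 :: ih (Nat.shiftRight n 3))) 60 n

/-- The check of a certificate tree. -/
noncomputable def chk8 (t : CT) : ℕ → List ℕ → Bool :=
  CT.rec (fun _ _ => false)
    (fun p k w => band (Nat.beq k 1) (band (okw w) (band (Nat.blt p 1408)
      (band (neB (tr w (tr w (tr w (tr w p)))) (tr [0, 0] p))
        (neB (tr w (tr w (tr w (tr w (tr w (tr w (tr w (tr w p)))))))) (tr [0, 0] p))))))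
    (fun _ c k w => band (Nat.beq k 1) (eqw (w ++ dec c) (dec c ++ wE)))
    (fun _ _ hl hr k w => Nat.rec (motive := fun _ => Bool) false
      (fun k' _ => band (Nat.blt 0 k') (band (hl k' w) (hr k' (sw k' ++ w)))) k) t

theorem chk8_b {l r : CT} {k : ℕ} {w : List ℕ} (h : chk8 (.b l r) k w = true) :
    ∃ k', k = k' + 1 ∧ 0 < k' ∧ chk8 l k' w = true ∧ chk8 r k' (sw k' ++ w) = true := by
  match k with
  | 0 => exact absurd h (by simp [chk8])
  | k' + 1 =>
    have h' : band (Nat.blt 0 k') (band (chk8 l k' w) (chk8 r k' (sw k' ++ w))) = true := h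
    rw [band_eq_true, band_eq_true] at h'
    exact ⟨k', rfl, Nat.blt_eq ▸ h'.1, h'.2⟩

/-- the element of order 8 -/
def E : H0 := hw wE

/-- the conclusion for the elements at a leaf -/
def Inv8 (g : H0) : Prop :=
  (g ^ 4 ≠ τ ∧ g ^ 8 ≠ τ) ∨ ∃ c, c⁻¹ * g * c = E ∨ c⁻¹ * g * c = E * τ

theorem τ_central_pow (g : H0) {n : ℕ} (hn : Even n) : (τ * g) ^ n = g ^ n := by
  obtain ⟨m, rfl⟩ := hn
  rw [(show Commute τ g from (τ_comm g).symm).mul_pow, ← two_mul, pow_mul τ, τ_sq, one_pow, one_mul]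

theorem Inv8.mul_τ {g : H0} (h : Inv8 g) : Inv8 (τ * g) := by
  rcases h with ⟨h1, h2⟩ | ⟨c, h2 | h2⟩
  · left
    rw [τ_central_pow g (by decide), τ_central_pow g (by decide)]
    exact ⟨h1, h2⟩
  · right
    refine ⟨c, Or.inr ?_⟩
    have : c⁻¹ * (τ * g) * c = (c⁻¹ * g * c) * τ := by
      rw [← mul_assoc c⁻¹ τ g, τ_comm c⁻¹, mul_assoc τ, mul_assoc τ, τ_comm (c⁻¹ * g * c)]
    rw [this, h2]
  · right
    refine ⟨c, Or.inl ?_⟩
    have : c⁻¹ * (τ * g) * c = (c⁻¹ * g * c) * τ := by
      rw [← mul_assoc c⁻¹ τ g, τ_comm c⁻¹, mul_assoc τ, mul_assoc τ, τ_comm (c⁻¹ * g * c)]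
    rw [this, h2, mul_assoc, τ_mul_τ, mul_one]

theorem leaf_P1 {g : H0} (h : Inv8 g) : ∀ u ∈ P 1, Inv8 (u * g) := by
  intro u hu
  rcases mem_P1 hu with rfl | rfl
  · rwa [one_mul]
  · exact h.mul_τ

theorem tr_cat4 (w : List ℕ) (p : ℕ) : tr (w ++ (w ++ (w ++ w))) p = tr w (tr w (tr w (tr w p))) := by
  rw [tr_append, tr_append, tr_append]

theorem hw_cat4 (w : List ℕ) : hw (w ++ (w ++ (w ++ w))) = hw w ^ 4 := by
  rw [hw_append, hw_append, hw_append]; simp only [pow_succ, pow_zero, one_mul, mul_assoc]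

theorem inv_of_chk8 (t : CT) : ∀ (k : ℕ) (w : List ℕ), k ≤ 11 → chk8 t k w = true → ∀ g ∈ P k, Inv8 (g * hw w) := by
  induction t with
  | z =>
    intro k w _ h
    exact absurd h (by simp [chk8])
  | n p =>
    intro k w _ h
    have h' : band (Nat.beq k 1) (band (okw w) (band (Nat.blt p 1408)
      (band (neB (tr w (tr w (tr w (tr w p)))) (tr [0, 0] p))
        (neB (tr w (tr w (tr w (tr w (tr w (tr w (tr w (tr w p)))))))) (tr [0, 0] p))))) = true := h
    rw [band_eq_true, band_eq_true, band_eq_true, band_eq_true, neB_iff, neB_iff] at h'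
    obtain ⟨h1, h2, h3, h4, h5⟩ := h'
    have hk : k = 1 := Nat.eq_of_beq_eq_true h1
    have hp : p < 1408 := Nat.blt_eq ▸ h3
    subst hk
    apply leaf_P1
    left
    have ok4 : okw (w ++ (w ++ (w ++ w))) = true := okw_append h2 (okw_append h2 (okw_append h2 h2))
    constructor
    · rw [← hw_cat4, ← hw_τ]
      exact hw_ne ok4 rfl hp (by rw [tr_cat4]; exact h4)
    · rw [show 8 = 4 * 2 from rfl, pow_mul, ← hw_cat4, pow_two, ← hw_append, ← hw_τ]
      exact hw_ne (okw_append ok4 ok4) rfl hp (by rw [tr_append, tr_cat4, tr_cat4]; exact h5)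
  | i r c =>
    intro k w _ h
    have h' : band (Nat.beq k 1) (eqw (w ++ dec c) (dec c ++ wE)) = true := h
    rw [band_eq_true] at h'
    have hk : k = 1 := Nat.eq_of_beq_eq_true h'.1
    subst hk
    apply leaf_P1
    right
    refine ⟨hw (dec c), Or.inl ?_⟩
    have h2 := hw_eq h'.2
    rw [hw_append, hw_append] at h2
    rw [mul_assoc, h2, inv_mul_cancel_left]
    rfl
  | b l r hl hr =>
    intro k w hk h g hg
    obtain ⟨k', rfl, hk', h1, h2⟩ := chk8_b h
    rcases (step (show k' < 11 by omega)).mem hg with h3 | h3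
    · exact hl k' w (by omega) h1 g h3
    · have h4 := hr k' (sw k' ++ w) (by omega) h2 _ h3
      rw [hw_append] at h4
      have h5 : g * (s k')⁻¹ * (hw (sw k') * hw w) = g * hw w := by
        change g * (s k')⁻¹ * (s k' * hw w) = g * hw w
        group
      rwa [h5] at h4

/-- evaluate first -/
private noncomputable def fc8 {α : Type} (x : ℕ) (f : ℕ → α) : α := Nat.rec (f 0) (fun k _ => f (Nat.succ k)) x

private theorem fc8_eq {α : Type} (x : ℕ) (f : ℕ → α) : fc8 x f = f x := by cases x <;> rfl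

/-- the same check; `f` traces the word generator by generator -/
private noncomputable def chkQ (t : CT) : ℕ → (ℕ → ℕ) → List ℕ → Bool :=
  CT.rec (fun _ _ _ => false)
    (fun p k f _ => band (Nat.beq k 1) (band (Nat.blt p 1408)
      (band (neB (f (f (f (f p)))) (tr [0, 0] p)) (neB (f (f (f (f (f (f (f (f p)))))))) (tr [0, 0] p)))))
    (fun _ c k _ w => band (Nat.beq k 1) (eqw (w ++ dec c) (dec c ++ wE)))
    (fun _ _ hl hr k f w => Nat.rec (motive := fun _ => Bool) false
      (fun k' _ => band (Nat.blt 0 k') (band (okw (sw k')) (band (hl k' f w)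
        (hr k' (fun p => fc8 p fun q => fc8 (tr (sw k') q) f) (sw k' ++ w))))) k) t

private theorem chkQ_spec (t : CT) : ∀ (k : ℕ) (f : ℕ → ℕ) (w : List ℕ), f = tr w → okw w = true → chkQ t k f w = true →
    chk8 t k w = true := by
  induction t with
  | z => exact fun _ _ _ _ _ h => h
  | n p =>
    rintro k _ w rfl hw h
    obtain ⟨h1, h2⟩ := (band_eq_true _ _).1 h
    exact (band_eq_true _ _).2 ⟨h1, (band_eq_true _ _).2 ⟨hw, h2⟩⟩
  | i r c => exact fun _ _ _ _ _ h => h
  | b l r hl hr =>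
    rintro k _ w rfl hw h
    match k, h with
    | 0, h => exact h
    | k' + 1, h =>
      obtain ⟨h1, h2⟩ := (band_eq_true _ _).1 h
      obtain ⟨h2, h3⟩ := (band_eq_true _ _).1 h2
      obtain ⟨h3, h4⟩ := (band_eq_true _ _).1 h3
      refine (band_eq_true _ _).2 ⟨h1, (band_eq_true _ _).2 ⟨hl k' _ w rfl hw h3, hr k' _ _ ?_ (okw_append h2 hw) h4⟩⟩
      funext p
      rw [fc8_eq, fc8_eq, tr_append]

theorem chk_T : chk8 T 11 [] = true :=
  chkQ_spec T 11 (fun p => p) [] rfl rfl (by decide +kernel)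

/-- every element of `S` -/
theorem inv8_S {g : H0} (hg : g ∈ S) : Inv8 g := by
  have h := inv_of_chk8 T 11 [] le_rfl chk_T g hg
  rwa [hw_nil, mul_one] at h

theorem E_sq : E ^ 2 = hw wY := by
  rw [pow_two, E, ← hw_append]; rfl

theorem E_four : E ^ 4 = τ := by
  rw [E, ← hw_cat4, ← hw_τ]
  exact hw_eq (by decide +kernel)

theorem Y_sq : (hw wY) ^ 2 = τ := by rw [← E_sq, ← pow_mul]; exact E_four

theorem conj_Eτ : IsConj E (E * τ) := by
  rw [isConj_iff]
  refine ⟨hw w5, ?_⟩
  have h : hw ((wE ++ [0, 0]) ++ w5) = hw (w5 ++ wE) := hw_eq (by decide +kernel)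
  rw [hw_append, hw_append, hw_append, hw_τ] at h
  rw [E, ← h, mul_inv_cancel_right]

theorem conj_pow_τ {g c : H0} {n : ℕ} (h : g ^ n = τ) : (c⁻¹ * g * c) ^ n = τ := by
  have h2 : c⁻¹ * g * c = c⁻¹ * g * (c⁻¹)⁻¹ := by rw [inv_inv]
  rw [h2, conj_pow, h, inv_inv, τ_comm, mul_assoc, inv_mul_cancel, mul_one]

/-- **4th roots of `τ`** -/
theorem conj_E {g : H0} (hg : g ^ 4 = τ) : IsConj E g := by
  have h8 : g ^ 2 ^ 3 = 1 := by
    rw [show 2 ^ 3 = 4 * 2 from rfl, pow_mul, hg, τ_sq]
  obtain ⟨c, hc⟩ := exists_conj_mem_S h8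
  have h1 : (c⁻¹ * g * c) ^ 4 = τ := conj_pow_τ hg
  rcases inv8_S hc with ⟨h2, -⟩ | ⟨d, h2⟩
  · exact absurd h1 h2
  · have h3 : d⁻¹ * (c⁻¹ * g * c) * d = (c * d)⁻¹ * g * (c * d) := by group
    rw [h3] at h2
    have h4 : IsConj ((c * d)⁻¹ * g * (c * d)) g := isConj_iff.2 ⟨c * d, by group⟩
    rcases h2 with h2 | h2
    · rw [h2] at h4; exact h4
    · rw [h2] at h4; exact conj_Eτ.trans h4

/-- **no element of order 16 above `τ`** -/
theorem ne_sixteen (g : H0) : g ^ 8 ≠ τ := by
  intro hg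
  have h8 : g ^ 2 ^ 4 = 1 := by
    rw [show 2 ^ 4 = 8 * 2 from rfl, pow_mul, hg, τ_sq]
  obtain ⟨c, hc⟩ := exists_conj_mem_S h8
  have h1 : (c⁻¹ * g * c) ^ 8 = τ := conj_pow_τ hg
  have hE : E ^ 8 = 1 := by rw [show 8 = 4 * 2 from rfl, pow_mul, E_four, τ_sq]
  rcases inv8_S hc with ⟨-, h2⟩ | ⟨d, h2⟩
  · exact h2 h1
  · have h3 : (d⁻¹ * (c⁻¹ * g * c) * d) ^ 8 = τ := conj_pow_τ h1
    rcases h2 with h2 | h2
    · rw [h2, hE] at h3; exact τ_ne_one h3.symm
    · rw [h2, τ_comm E, τ_central_pow _ (by decide), hE] at h3; exact τ_ne_one h3.symm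

/-! ### orders of centralizers -/

theorem card_conj {G : Type*} [Group G] {x y : G} (h : IsConj x y) :
    Nat.card (Subgroup.centralizer ({x} : Set G)) = Nat.card (Subgroup.centralizer ({y} : Set G)) := by
  obtain ⟨c, rfl⟩ := isConj_iff.1 h
  exact (Cfsg.Agent.H513.HNH0.card_cent_conj c x).symm

theorem chk_cy : chkL [wY] [] cy = true := by decide +kernel

theorem card_Y : Nat.card (Subgroup.centralizer ({hw wY} : Set H0)) = 5760 := by
  apply le_antisymm
  · rw [← card_conj (isConj_of_sq_eq_τ Y_sq)]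
    exact Cfsg.Agent.H789.Ore.HNgx.card_gx
  · have h := prod_le chk_cy
    rw [Sub_single] at h
    exact le_trans (by decide +kernel) h

/-- `|C(y)| = 5760` for `y ^ 2 = τ` -/
theorem card_of_sq {y : H0} (hy : y ^ 2 = τ) : Nat.card (Subgroup.centralizer ({y} : Set H0)) = 5760 := by
  rw [← card_conj (isConj_of_sq_eq_τ hy), card_conj (isConj_of_sq_eq_τ Y_sq), card_Y]

theorem chk_ce : chkL [wE] [] ce = true := by decide +kernel

theorem rts_ok : (rts.all fun r => eqw (r ++ r) wY) = true := by decide +kernel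

theorem rts_len : rts.length = 72 := by decide +kernel

/-- key -/
def key (w : List ℕ) : ℕ :=
  Nat.add (tr w 0) (Nat.mul 2048 (Nat.add (tr w 17) (Nat.mul 2048 (Nat.add (tr w 221) (Nat.mul 2048 (tr w 8))))))

theorem key_eq {a b : List ℕ} (ha : okw a = true) (hb : okw b = true) (h : hw a = hw b) : key a = key b := by
  have h1 : ∀ p, p < 1408 → tr a p = tr b p := by
    intro p hp
    by_contra hne
    exact hw_ne ha hb hp hne h
  unfold key
  rw [h1 0 (by norm_num), h1 17 (by norm_num), h1 221 (by norm_num), h1 8 (by norm_num)]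

theorem rts_nd : ndB (rts.map key) = true := by decide +kernel
theorem rts_okw : (rts.all okw) = true := by decide +kernel

theorem card_E : Nat.card (Subgroup.centralizer ({E} : Set H0)) = 80 := by
  have hfin := finite_H0
  apply le_antisymm
  · have h1 : ∀ i : Fin rts.length, ∃ c : Subgroup.centralizer ({hw wY} : Set H0),
        (c : H0) * E * (c : H0)⁻¹ = hw (rts.get i) := by
      intro i
      have h2 := hw_eq (List.all_eq_true.1 rts_ok _ (List.get_mem rts i))
      rw [hw_append, ← pow_two] at h2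
      have h3 : hw (rts.get i) ^ 4 = τ := by rw [show 4 = 2 * 2 from rfl, pow_mul, h2, Y_sq]
      obtain ⟨c, hc⟩ := isConj_iff.1 (conj_E h3)
      refine ⟨⟨c, ?_⟩, hc⟩
      rw [Subgroup.mem_centralizer_singleton_iff]
      have h4 : c * hw wY * c⁻¹ = hw wY := by
        rw [← E_sq, ← conj_pow, hc, h2, E_sq]
      rw [mul_inv_eq_iff_eq_mul] at h4
      exact h4
    choose f hf using h1
    have h2 := card_mul_le (D := Subgroup.centralizer ({hw wY} : Set H0)) (e := E) f (by
      intro i j hij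
      have hij' : (f i : H0) * E * (f i : H0)⁻¹ = (f j : H0) * E * (f j : H0)⁻¹ := hij
      rw [hf, hf] at hij'
      have h3 := key_eq (List.all_eq_true.1 rts_okw _ (List.get_mem rts i))
        (List.all_eq_true.1 rts_okw _ (List.get_mem rts j)) hij'
      have hinj := List.nodup_iff_injective_get.1 (ndB_spec rts_nd)
      have hlen : (rts.map key).length = rts.length := List.length_map _
      have h11 : (Fin.cast hlen.symm i) = (Fin.cast hlen.symm j) := by
        apply hinj
        simpa using h3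
      simpa [Fin.ext_iff] using h11)
    have h5 : Subgroup.centralizer ({hw wY} : Set H0) ⊓ Subgroup.centralizer ({E} : Set H0) =
        Subgroup.centralizer ({E} : Set H0) := by
      refine inf_eq_right.2 fun v hv => Subgroup.mem_centralizer_singleton_iff.2 ?_
      rw [← E_sq]
      exact Commute.pow_right (Subgroup.mem_centralizer_singleton_iff.1 hv) 2
    rw [h5, rts_len, card_Y] at h2
    omega
  · have h := prod_le chk_ce
    rw [Sub_single] at h
    exact le_trans (by decide +kernel) h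

/-- `|C(g)| = 80` for `g ^ 4 = τ` -/
theorem card_of_four {g : H0} (hg : g ^ 4 = τ) : Nat.card (Subgroup.centralizer ({g} : Set H0)) = 80 := by
  rw [← card_conj (conj_E hg), card_E]

/-! ### elements of order 3 -/

open scoped Pointwise in
/-- a 3-element with cube 1 is conjugate into a given subgroup of order 9, if 9 is the full power -/
theorem exists_conj_nine {G : Type*} [Group G] [Finite G] {R : Subgroup G} (hR : Nat.card R = 9)
    (h9 : (Nat.card G).factorization 3 = 2) {g : G} (hg : g ^ 3 = 1) (h1 : g ≠ 1) : ∃ c : G, c⁻¹ * g * c ∈ R := by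
  have : Fact (Nat.Prime 3) := ⟨Nat.prime_three⟩
  let Q : Sylow 3 G := Sylow.ofCard R (by rw [hR, h9]; norm_num)
  have h2 : IsPGroup 3 (Subgroup.zpowers g) := by
    apply IsPGroup.of_card (n := 1)
    rw [Nat.card_zpowers, pow_one]
    exact orderOf_eq_prime hg h1
  obtain ⟨R', hR'⟩ := h2.exists_le_sylow
  obtain ⟨c, hc⟩ := MulAction.exists_smul_eq G Q R'
  have h3 : g ∈ ((c • Q : Sylow 3 G) : Subgroup G) := by
    rw [hc]
    exact hR' (Subgroup.mem_zpowers g)
  refine ⟨c, ?_⟩
  rw [Sylow.coe_subgroup_smul, Subgroup.mem_pointwise_smul_iff_inv_smul_mem] at h3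
  have h5 : (MulAut.conj c)⁻¹ • g = c⁻¹ * g * c := by
    rw [MulAut.smul_def, MulAut.conj_inv_apply]
  rw [h5] at h3
  exact h3

theorem cj3_ok : ∀ e < 8, eqw (Cfsg.Agent.HN.FactB.wij (e + 1) ++ cj3.getD e []) (cj3.getD e [] ++ [2, 2]) = true := by
  decide +kernel

/-- **one class of elements of order 3** -/
theorem conj_three {g : H0} (hg : g ^ 3 = 1) (h1 : g ≠ 1) : IsConj (hw [2, 2]) g := by
  have hfin := finite_H0
  obtain ⟨c, hc⟩ := exists_conj_nine Cfsg.Agent.HN.FactB.card_S3 Cfsg.Agent.HN.FactB.factorization_three hg h1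
  obtain ⟨e, he, h5⟩ := Cfsg.Agent.HN.FactB.mem_S3 hc
  have h0 : e ≠ 0 := by
    rintro rfl
    rw [Cfsg.Agent.HN.FactB.hw_wij, show 0 / 3 = 0 from rfl, show 0 % 3 = 0 from rfl, pow_zero, pow_zero,
      mul_one] at h5
    apply h1
    have : g = c * (c⁻¹ * g * c) * c⁻¹ := by group
    rw [this, h5, mul_one, mul_inv_cancel]
  obtain ⟨e, rfl⟩ : ∃ e', e = e' + 1 := ⟨e - 1, by omega⟩
  have h6 := hw_eq (cj3_ok e (by omega))
  rw [hw_append, hw_append, ← h5] at h6
  rw [isConj_iff]
  refine ⟨c * hw (cj3.getD e []), ?_⟩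
  rw [mul_inv_rev]
  calc c * hw (cj3.getD e []) * hw [2, 2] * ((hw (cj3.getD e []))⁻¹ * c⁻¹)
      = c * (hw (cj3.getD e []) * hw [2, 2]) * (hw (cj3.getD e []))⁻¹ * c⁻¹ := by group
    _ = g := by rw [← h6]; group

theorem chk_cs : chkL [[2, 2]] [] cs = true := by decide +kernel

end Cfsg.Agent.H981.M23.HNTwoA
end

private theorem dce_2fae6087836f : _root_.True := by
  try have : _root_.True := by simp only [_root_.Cfsg.Agent.H981.M23.HNTwoA.chk8.eq_1]
  try have : _root_.True := by simp only [_root_.Cfsg.Agent.H981.M23.HNTwoA.E.eq_1]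
  exact _root_.True.intro
end

-- part: H981/M23/HNTwoB
section
set_option linter.all false
open scoped Cfsg.Agent.FastGrp

/-!
# Elements of HN with a power conjugate to `τ` (2A), facts for (M,23) (helper981)

`G = Spor.HN`, `ψ : H0 → G` the centralizer of `ψ τ`.

* `four` : `x ^ 2 ~ ψ τ`: `x ~ ψ gx`, `|C(x)| = 5760` (4B);
* `eight` : `x ^ 4 ~ ψ τ`: `x ~ ψ E`, `|C(x)| = 80` (8A);
* `ne_sixteen` : no `x` with `x ^ 8 ~ ψ τ`;
* `six` : `x` of order 6 with `x ^ 3 ~ ψ τ`: one class, `|C(x)| = 1440` (6A);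
* `twelve` : `x` of order 12 with `x ^ 6 ~ ψ τ`: one class, `|C(x)| = 72` (12A);
* `ne_twentyfour` : `x ^ 12 ~ ψ τ` has order 8.
-/

set_option autoImplicit false
set_option maxRecDepth 100000

namespace Cfsg.Agent.H981.M23.HNTwoB

open Cfsg.Agent.HN.Pres Cfsg.Agent.HN.H0Basic
open Cfsg.Agent.HN.P1408 hiding ψ
open Cfsg.Agent.HN.NormalH (ψ)
open Cfsg.Agent.HN.Syl
open Cfsg.Agent.SporadicA.PermTab
open Lev HNData HNTwoA

/-! ### order 3 in `H0` -/

open Cfsg.Agent.H922.Ore.Gr Cfsg.Agent.H922.Ore.HS Cfsg.Agent.H348.Pw.Gr Cfsg.Agent.HN.HS100 in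
theorem small3 : ∀ i, bnd (D i).L ≤ 720 ∨ eqv 100 (powL [(D i).X] 4) [] = true ∨
    eqv 100 (powL [(D i).X] 5) [] = true := by
  intro i
  fin_cases i <;> decide +kernel

open Cfsg.Agent.H922.Ore.Gr Cfsg.Agent.H922.Ore.HS Cfsg.Agent.H348.Pw.Gr Cfsg.Agent.HN.HS100 in
theorem card_le_three {s : H0} (hs : s ^ 3 = 1) (hs1 : s ≠ 1) :
    Nat.card (Subgroup.centralizer ({s} : Set H0)) ≤ 1440 := by
  classical
  have hfin := finite_H0
  have hne : ∀ t : H0, t = 1 ∨ t = τ → s ≠ t := by
    rintro t (rfl | rfl) rfl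
    · exact hs1 rfl
    · rw [show τ ^ 3 = τ * τ ^ 2 from pow_succ' _ _, τ_sq, mul_one] at hs
      exact τ_ne_one hs
  have hQ : φ s ∈ Q := by
    rw [mem_Q_iff ⟨s, rfl⟩]
    have h1 : (Equiv.Perm.sign (φ s)) ^ 3 = 1 := by rw [← map_pow, ← map_pow, hs, map_one, map_one]
    rcases Int.units_eq_one_or (Equiv.Perm.sign (φ s)) with h | h
    · exact h
    · rw [h] at h1
      exact absurd h1 (by decide)
  obtain ⟨i, x, -, hx, c, hc, he⟩ := Cfsg.Agent.H348.Pw.HS.cov_Q _ hQ
  have h1 := Cfsg.Agent.H692.Ore.HNE.card_cent_le hx hc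
  rw [← he] at h1
  have h8 : ∀ n : ℕ, Nat.Coprime 3 n → ¬ (φ s) ^ n = 1 := by
    intro n hn h
    have h6 : orderOf (φ s) ∣ n := orderOf_dvd_of_pow_eq_one h
    have h7 : orderOf (φ s) ∣ 3 := orderOf_dvd_of_pow_eq_one (by rw [← map_pow, hs, map_one])
    have h9 : orderOf (φ s) = 1 := Nat.eq_one_of_dvd_coprimes hn h7 h6
    rw [orderOf_eq_one_iff, φ_eq_one_iff] at h9
    exact hne s h9 rfl
  have h2 : bnd (D i).L ≤ 720 := by
    rcases small3 i with h | h | h
    · exact h
    · exfalso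
      have h4 : x ^ 4 = 1 := Acts.eq (acts_pow hx 4) Acts.one h
      exact h8 4 (by norm_num) (by rw [he, conj_pow, h4, mul_one, mul_inv_cancel])
    · exfalso
      have h4 : x ^ 5 = 1 := Acts.eq (acts_pow hx 5) Acts.one h
      exact h8 5 (by norm_num) (by rw [he, conj_pow, h4, mul_one, mul_inv_cancel])
  -- the kernel of the map has order two
  let C := Subgroup.centralizer ({s} : Set H0)
  have h9 : Nat.card C ≤ 2 * Nat.card (C.map φ) := by
    have h10 := Subgroup.card_mul_index ((φ.comp C.subtype).ker)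
    rw [Subgroup.index_ker] at h10
    have h11 : (φ.comp C.subtype).range = C.map φ := by
      rw [MonoidHom.range_comp, Subgroup.range_subtype]
    rw [h11] at h10
    have h12 : Nat.card (φ.comp C.subtype).ker ≤ 2 := by
      have h13 : Nat.card (φ.comp C.subtype).ker ≤ Nat.card (({1, τ} : Finset H0) : Set H0) := by
        refine Nat.card_le_card_of_injective (fun y => ⟨((y : C) : H0), ?_⟩) ?_
        · have h14 : φ ((y : C) : H0) = 1 := y.2
          rw [φ_eq_one_iff] at h14
          simpa using h14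
        · intro y z hyz
          have h2 := congrArg Subtype.val hyz
          exact Subtype.ext (Subtype.ext h2)
      refine h13.trans ?_
      rw [Nat.card_coe_set_eq, Set.ncard_coe_finset]
      exact Finset.card_le_two
    calc Nat.card C = Nat.card (φ.comp C.subtype).ker * Nat.card (C.map φ) := h10.symm
      _ ≤ 2 * Nat.card (C.map φ) := Nat.mul_le_mul_right _ h12
  have h15 : C.map φ ≤ Subgroup.centralizer ({φ s} : Set (Equiv.Perm (Fin 100))) ⊓ φ.range := by
    rintro _ ⟨y, hy, rfl⟩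
    refine Subgroup.mem_inf.2 ⟨?_, ⟨y, rfl⟩⟩
    rw [Subgroup.mem_centralizer_singleton_iff, ← map_mul, ← map_mul,
      Subgroup.mem_centralizer_singleton_iff.1 hy]
  have h16 := Nat.card_le_card_of_injective _ (Subgroup.inclusion_injective h15)
  show Nat.card C ≤ 1440
  omega

theorem s_cube : hw [2, 2] ^ 3 = 1 := by
  have h : hw ([2, 2] ++ ([2, 2] ++ [2, 2])) = hw [2, 2] ^ 3 := by
    rw [hw_append, hw_append]; simp only [pow_succ, pow_zero, one_mul, mul_assoc]
  rw [← h, ← hw_nil]; exact hw_eq (by decide +kernel)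

theorem s_ne_one : hw [2, 2] ≠ 1 := by
  rw [← hw_nil]
  exact hw_ne rfl rfl (p := 17) (by norm_num) (by decide +kernel)

theorem card_s : Nat.card (Subgroup.centralizer ({hw [2, 2]} : Set H0)) = 1440 := by
  apply le_antisymm (card_le_three s_cube s_ne_one)
  have h := prod_le chk_cs
  rw [Sub_single] at h
  exact le_trans (by decide +kernel) h

/-- `|C(s)| = 1440` for the elements of order 3 of `H0` -/
theorem card_three {g : H0} (hg : g ^ 3 = 1) (h1 : g ≠ 1) :
    Nat.card (Subgroup.centralizer ({g} : Set H0)) = 1440 := by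
  rw [← card_conj (conj_three hg h1), card_s]

/-! ### order 6 -/

theorem six0 {g : H0} (hg : g ^ 3 = τ) (h1 : g ≠ τ) : IsConj (hw [2, 2] * τ) g ∧
    Nat.card (Subgroup.centralizer ({g} : Set H0)) = 1440 := by
  have h3 : (g * τ) ^ 3 = 1 := by
    rw [(show Commute g τ from τ_comm g).mul_pow, hg, show τ ^ 3 = τ * τ ^ 2 from pow_succ' _ _, τ_sq, mul_one, τ_mul_τ]
  have h4 : g * τ ≠ 1 := by
    intro h
    apply h1
    rw [← τ_inv]
    exact eq_inv_of_mul_eq_one_left h
  have h5 := conj_three h3 h4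
  constructor
  · obtain ⟨c, hc⟩ := isConj_iff.1 h5
    rw [isConj_iff]
    refine ⟨c, ?_⟩
    calc c * (hw [2, 2] * τ) * c⁻¹ = c * hw [2, 2] * (τ * c⁻¹) := by group
      _ = c * hw [2, 2] * (c⁻¹ * τ) := by rw [← τ_comm]
      _ = c * hw [2, 2] * c⁻¹ * τ := by group
      _ = g := by rw [hc, mul_assoc, τ_mul_τ, mul_one]
  · rw [← card_three h3 h4]
    congr 1
    apply congrArg (fun K : Subgroup H0 => ↥K)
    ext v
    rw [Subgroup.mem_centralizer_singleton_iff, Subgroup.mem_centralizer_singleton_iff]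
    constructor
    · intro h
      rw [← mul_assoc, h, mul_assoc, τ_comm v, ← mul_assoc, mul_assoc]
    · intro h
      have h6 : v * (g * τ) * τ = g * τ * v * τ := by rw [h]
      rw [mul_assoc v, mul_assoc g, τ_mul_τ, mul_one, mul_assoc (g * τ), τ_comm v, mul_assoc g, ← mul_assoc τ,
        τ_mul_τ, one_mul] at h6
      exact h6

/-! ### order 12 and 24 -/

theorem chk_cys : chkL [wY, w1] [] cys = true := by decide +kernel

theorem cl1_ok : (cl1.all fun c => okw c && eqw (c ++ wY) (wY ++ c)) = true := by decide +kernel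

theorem cl1_nd : ndB (cl1.map fun c => key (c ++ (w1 ++ iw c))) = true := by decide +kernel

theorem w1_ok : okw w1 = true := by decide +kernel
theorem card_ys : Nat.card ↥(Subgroup.centralizer ({hw wY} : Set H0) ⊓ Subgroup.centralizer ({hw w1} : Set H0)) = 72 := by
  have hfin := finite_H0
  apply le_antisymm
  · have hm : ∀ i : Fin cl1.length, hw (cl1.get i) ∈ Subgroup.centralizer ({hw wY} : Set H0) := by
      intro i
      have h2 := List.all_eq_true.1 cl1_ok _ (List.get_mem cl1 i)
      rw [Bool.and_eq_true] at h2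
      have h3 := hw_eq h2.2
      rw [hw_append, hw_append] at h3
      exact Subgroup.mem_centralizer_singleton_iff.2 h3
    have h2 := card_mul_le (D := Subgroup.centralizer ({hw wY} : Set H0)) (e := hw w1)
      (fun i : Fin cl1.length => ⟨hw (cl1.get i), hm i⟩) (by
      intro i j hij
      have hij' : hw (cl1.get i) * hw w1 * (hw (cl1.get i))⁻¹ = hw (cl1.get j) * hw w1 * (hw (cl1.get j))⁻¹ := hij
      have ok : ∀ i : Fin cl1.length, okw (cl1.get i ++ (w1 ++ iw (cl1.get i))) = true := by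
        intro i
        have h2 := List.all_eq_true.1 cl1_ok _ (List.get_mem cl1 i)
        rw [Bool.and_eq_true] at h2
        exact okw_append h2.1 (okw_append w1_ok (okw_iw h2.1))
      have e : ∀ i : Fin cl1.length, hw (cl1.get i ++ (w1 ++ iw (cl1.get i))) =
          hw (cl1.get i) * hw w1 * (hw (cl1.get i))⁻¹ := by
        intro i
        rw [hw_append, hw_append, hw_iw, mul_assoc]
      rw [← e, ← e] at hij'
      have h3 := key_eq (ok i) (ok j) hij'
      have hinj := List.nodup_iff_injective_get.1 (ndB_spec cl1_nd)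
      have hlen : (cl1.map fun c => key (c ++ (w1 ++ iw c))).length = cl1.length := List.length_map _
      have h11 : (Fin.cast hlen.symm i) = (Fin.cast hlen.symm j) := by
        apply hinj
        simpa using h3
      simpa [Fin.ext_iff] using h11)
    rw [card_Y] at h2
    have h3 : cl1.length = 80 := by decide +kernel
    rw [h3] at h2
    omega
  · have h := prod_le chk_cys
    rw [Sub_pair] at h
    exact le_trans (by decide +kernel) h

/-- the subgroup of order 9 of the centralizer of `y` -/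
theorem w12_cube : hw w1 ^ 3 = 1 ∧ hw w2 ^ 3 = 1 := by
  have h : ∀ w : List ℕ, hw (w ++ (w ++ w)) = hw w ^ 3 := by
    intro w
    rw [hw_append, hw_append]; simp only [pow_succ, pow_zero, one_mul, mul_assoc]
  constructor
  · rw [← h, ← hw_nil]; exact hw_eq (by decide +kernel)
  · rw [← h, ← hw_nil]; exact hw_eq (by decide +kernel)

/-- the centralizer of `y` -/
abbrev CY : Subgroup H0 := Subgroup.centralizer ({hw wY} : Set H0)

theorem mem_CY {w : List ℕ} (h : eqw (w ++ wY) (wY ++ w) = true) : hw w ∈ CY := by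
  have h3 := hw_eq h
  rw [hw_append, hw_append] at h3
  exact Subgroup.mem_centralizer_singleton_iff.2 h3

/-- words `w1 ^ i w2 ^ j` -/
def wij (e : ℕ) : List ℕ := (List.replicate (e / 3) w1).flatten ++ (List.replicate (e % 3) w2).flatten

theorem hw_rep (w : List ℕ) (n : ℕ) : hw (List.replicate n w).flatten = hw w ^ n := by
  induction n with
  | zero => rw [List.replicate_zero, List.flatten_nil, hw_nil, pow_zero]
  | succ n ih => rw [List.replicate_succ, List.flatten_cons, hw_append, ih, pow_succ']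

theorem hw_wij (e : ℕ) : hw (wij e) = hw w1 ^ (e / 3) * hw w2 ^ (e % 3) := by
  rw [wij, hw_append, hw_rep, hw_rep]

theorem w12_comm : hw w2 * hw w1 = hw w1 * hw w2 := by
  rw [← hw_append, ← hw_append]
  exact hw_eq (by decide +kernel)

theorem w1_mem : hw w1 ∈ CY := mem_CY (by decide +kernel)
theorem w2_mem : hw w2 ∈ CY := mem_CY (by decide +kernel)

theorem cj12_ok : ∀ e < 8, eqw (wij (e + 1) ++ cj12.getD e []) (cj12.getD e [] ++ w1) = true ∧
    eqw (cj12.getD e [] ++ wY) (wY ++ cj12.getD e []) = true := by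
  decide +kernel

theorem wij_nd : ndB ((List.range 9).map fun e => key (wij e)) = true := by decide +kernel

theorem wij_okw : ((List.range 9).all fun e => okw (wij e)) = true := by decide +kernel

/-- the Sylow 3-subgroup of `C(y)` -/
def S9 : Subgroup CY where
  carrier := {g | ∃ i j : ℕ, (g : H0) = hw w1 ^ i * hw w2 ^ j}
  one_mem' := ⟨0, 0, by rw [pow_zero, pow_zero, mul_one]; rfl⟩
  mul_mem' := by
    rintro a b ⟨i, j, h⟩ ⟨k, l, h'⟩
    refine ⟨i + k, j + l, ?_⟩
    have h2 : hw w2 ^ j * hw w1 ^ k = hw w1 ^ k * hw w2 ^ j :=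
      (Commute.pow_pow (show Commute (hw w2) (hw w1) from w12_comm) j k).eq
    rw [Subgroup.coe_mul, h, h', pow_add, pow_add]
    calc hw w1 ^ i * hw w2 ^ j * (hw w1 ^ k * hw w2 ^ l) = hw w1 ^ i * (hw w2 ^ j * hw w1 ^ k) * hw w2 ^ l := by
          simp only [mul_assoc]
      _ = _ := by rw [h2]; simp only [mul_assoc]
  inv_mem' := by
    rintro a ⟨i, j, h⟩
    refine ⟨2 * i, 2 * j, ?_⟩
    have h1 : ∀ (u : H0), u ^ 3 = 1 → ∀ i : ℕ, (u ^ i)⁻¹ = u ^ (2 * i) := by
      intro u hu i
      rw [inv_eq_iff_mul_eq_one, ← pow_add, show i + 2 * i = 3 * i by ring, pow_mul, hu, one_pow]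
    have h2 : hw w2 ^ (2 * j) * hw w1 ^ (2 * i) = hw w1 ^ (2 * i) * hw w2 ^ (2 * j) :=
      (Commute.pow_pow (show Commute (hw w2) (hw w1) from w12_comm) _ _).eq
    rw [Subgroup.coe_inv, h, mul_inv_rev, h1 _ w12_cube.1, h1 _ w12_cube.2, h2]

theorem mem_S9 {g : CY} (hg : g ∈ S9) : ∃ e < 9, (g : H0) = hw (wij e) := by
  obtain ⟨i, j, h⟩ := hg
  refine ⟨3 * (i % 3) + j % 3, by omega, ?_⟩
  have hm : ∀ (u : H0), u ^ 3 = 1 → ∀ i : ℕ, u ^ i = u ^ (i % 3) := by
    intro u hu i
    conv_lhs => rw [← Nat.div_add_mod i 3, pow_add, pow_mul, hu, one_pow, one_mul]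
  rw [h, hw_wij, hm _ w12_cube.1 i, hm _ w12_cube.2 j]
  congr 2
  · omega
  · omega

theorem card_S9 : Nat.card S9 = 9 := by
  have hfin := finite_H0
  apply le_antisymm
  · have h : ∀ g : S9, ∃ e : Fin 9, ((g : CY) : H0) = hw (wij e) := by
      intro g
      obtain ⟨e, he, h⟩ := mem_S9 g.2
      exact ⟨⟨e, he⟩, h⟩
    choose f hf using h
    have h2 := Nat.card_le_card_of_injective f (by
      intro a b hab
      apply Subtype.ext
      apply Subtype.ext
      rw [hf, hf, hab])
    rw [Nat.card_eq_fintype_card (α := Fin 9), Fintype.card_fin] at h2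
    exact h2
  · have h1 : ∀ e : Fin 9, hw (wij e) ∈ CY := by
      intro e
      rw [hw_wij]
      exact mul_mem (pow_mem w1_mem _) (pow_mem w2_mem _)
    have h2 := Nat.card_le_card_of_injective
      (fun e : Fin 9 => (⟨⟨hw (wij e), h1 e⟩, ⟨(e : ℕ) / 3, (e : ℕ) % 3, hw_wij e⟩⟩ : S9)) (by
      intro i j hij
      have h3 : hw (wij i) = hw (wij j) := congrArg (fun z : S9 => ((z : CY) : H0)) hij
      have ok : ∀ i : Fin 9, okw (wij i) = true := fun i =>
        List.all_eq_true.1 wij_okw _ (List.mem_range.2 i.2)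
      have h4 := key_eq (ok i) (ok j) h3
      have hnd := ndB_spec wij_nd
      exact Fin.ext (List.inj_on_of_nodup_map hnd (List.mem_range.2 i.2) (List.mem_range.2 j.2) h4))
    rw [Nat.card_eq_fintype_card (α := Fin 9), Fintype.card_fin] at h2
    exact h2

theorem factorization_CY : (Nat.card CY).factorization 3 = 2 := by
  rw [card_Y, show (5760 : ℕ) = 3 ^ 2 * 640 by norm_num]
  have h2 : (640 : ℕ).factorization 3 = 0 := Nat.factorization_eq_zero_of_not_dvd (by norm_num)
  rw [Nat.factorization_mul (by norm_num) (by norm_num), Nat.Prime.factorization_pow Nat.prime_three,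
    Finsupp.add_apply, h2, Finsupp.single_eq_same]

/-- elements of order 3 of `C(y)` -/
theorem conj_CY {s : H0} (hs : s ^ 3 = 1) (h1 : s ≠ 1) (hc : s * hw wY = hw wY * s) :
    ∃ c : H0, c * hw wY = hw wY * c ∧ c * hw w1 * c⁻¹ = s := by
  have hfin := finite_H0
  let s' : CY := ⟨s, Subgroup.mem_centralizer_singleton_iff.2 hc⟩
  have hs' : s' ^ 3 = 1 := Subtype.ext hs
  have h1' : s' ≠ 1 := fun h => h1 (congrArg Subtype.val h)
  obtain ⟨c, hcc⟩ := exists_conj_nine card_S9 factorization_CY hs' h1'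
  obtain ⟨e, he, h5⟩ := mem_S9 hcc
  have h5' : (c : H0)⁻¹ * s * (c : H0) = hw (wij e) := h5
  have h0 : e ≠ 0 := by
    rintro rfl
    rw [hw_wij, show 0 / 3 = 0 from rfl, show 0 % 3 = 0 from rfl, pow_zero, pow_zero, mul_one] at h5'
    apply h1
    have : s = (c : H0) * ((c : H0)⁻¹ * s * c) * (c : H0)⁻¹ := by group
    rw [this, h5', mul_one, mul_inv_cancel]
  obtain ⟨e, rfl⟩ : ∃ e', e = e' + 1 := ⟨e - 1, by omega⟩
  obtain ⟨h6, h7⟩ := cj12_ok e (by omega)
  have h6' := hw_eq h6
  have h7' := hw_eq h7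
  rw [hw_append, hw_append] at h6' h7'
  refine ⟨c * hw (cj12.getD e []), ?_, ?_⟩
  · have h8 := Subgroup.mem_centralizer_singleton_iff.1 c.2
    rw [mul_assoc, h7', ← mul_assoc, h8, mul_assoc]
  · rw [← h5'] at h6'
    rw [mul_inv_rev]
    calc (c : H0) * hw (cj12.getD e []) * hw w1 * ((hw (cj12.getD e []))⁻¹ * (c : H0)⁻¹)
        = (c : H0) * (hw (cj12.getD e []) * hw w1) * (hw (cj12.getD e []))⁻¹ * (c : H0)⁻¹ := by group
      _ = s := by rw [← h6']; group

/-- **elements of order 12 above `τ`** in `H0` -/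
theorem twelve0 {g : H0} (hg : g ^ 6 = τ) (h4 : g ^ 4 ≠ 1) : IsConj (hw w1 * hw wY) g ∧
    Nat.card (Subgroup.centralizer ({g} : Set H0)) = 72 := by
  have hfin := finite_H0
  have h12 : g ^ 12 = 1 := by rw [show 12 = 6 * 2 from rfl, pow_mul, hg, τ_sq]
  -- the parts of order 4 and 3
  set x := g ^ 9 with hx
  set t := g ^ 4 with ht
  have hxt : t * x = g := by
    rw [hx, ht, ← pow_add, show 4 + 9 = 12 + 1 from rfl, pow_succ, h12, one_mul]
  have hx2 : x ^ 2 = τ := by
    rw [hx, ← pow_mul, show 9 * 2 = 12 + 6 from rfl, pow_add, h12, one_mul, hg]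
  have ht3 : t ^ 3 = 1 := by rw [ht, ← pow_mul]; exact h12
  have hcomm : t * x = x * t := by rw [hx, ht, ← pow_add, ← pow_add]
  obtain ⟨d, hd⟩ := isConj_iff.1 ((isConj_of_sq_eq_τ Y_sq).symm.trans (isConj_of_sq_eq_τ hx2))
  -- `d y d⁻¹ = x`
  have hs3 : (d⁻¹ * t * d) ^ 3 = 1 := by
    have : d⁻¹ * t * d = d⁻¹ * t * (d⁻¹)⁻¹ := by rw [inv_inv]
    rw [this, conj_pow, ht3]; group
  have hs1 : d⁻¹ * t * d ≠ 1 := by
    intro h
    apply h4
    have : t = d * (d⁻¹ * t * d) * d⁻¹ := by group
    rw [this, h]; group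
  have hsc : d⁻¹ * t * d * hw wY = hw wY * (d⁻¹ * t * d) := by
    have e1 : hw wY = d⁻¹ * x * d := by rw [← hd]; group
    rw [e1]
    calc d⁻¹ * t * d * (d⁻¹ * x * d) = d⁻¹ * (t * x) * d := by group
      _ = d⁻¹ * (x * t) * d := by rw [hcomm]
      _ = _ := by group
  obtain ⟨c, hc1, hc2⟩ := conj_CY hs3 hs1 hsc
  have hcy : c * hw wY * c⁻¹ = hw wY := by rw [hc1]; group
  have hconj : (d * c) * (hw w1 * hw wY) * (d * c)⁻¹ = g := by
    have e1 : (d * c) * hw w1 * (d * c)⁻¹ = t := by
      calc (d * c) * hw w1 * (d * c)⁻¹ = d * (c * hw w1 * c⁻¹) * d⁻¹ := by group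
        _ = t := by rw [hc2]; group
    have e2 : (d * c) * hw wY * (d * c)⁻¹ = x := by
      calc (d * c) * hw wY * (d * c)⁻¹ = d * (c * hw wY * c⁻¹) * d⁻¹ := by group
        _ = x := by rw [hcy, hd]
    calc (d * c) * (hw w1 * hw wY) * (d * c)⁻¹ = ((d * c) * hw w1 * (d * c)⁻¹) * ((d * c) * hw wY * (d * c)⁻¹) := by
          group
      _ = g := by rw [e1, e2, hxt]
  have hI : IsConj (hw w1 * hw wY) g := isConj_iff.2 ⟨d * c, hconj⟩
  refine ⟨hI, ?_⟩
  rw [← card_conj hI, ← card_ys]
  congr 1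
  apply congrArg (fun K : Subgroup H0 => ↥K)
  ext v
  rw [Subgroup.mem_inf, Subgroup.mem_centralizer_singleton_iff, Subgroup.mem_centralizer_singleton_iff,
    Subgroup.mem_centralizer_singleton_iff]
  have hYs : hw w1 * hw wY = hw wY * hw w1 := Subgroup.mem_centralizer_singleton_iff.1 w1_mem
  have hY4 : hw wY ^ 4 = 1 := by rw [show 4 = 2 * 2 from rfl, pow_mul, Y_sq, τ_sq]
  constructor
  · intro h
    have hc : Commute v (hw w1 * hw wY) := h
    have hcm : Commute (hw w1) (hw wY) := hYs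
    have e9 : (hw w1 * hw wY) ^ 9 = hw wY := by
      rw [hcm.mul_pow, show 9 = 3 * 3 from rfl, pow_mul (hw w1), w12_cube.1, one_pow, one_mul,
        show 3 * 3 = 4 * 2 + 1 from rfl, pow_succ, pow_mul, hY4, one_pow, one_mul]
    have e4 : (hw w1 * hw wY) ^ 4 = hw w1 := by
      rw [hcm.mul_pow, hY4, mul_one, show 4 = 3 + 1 from rfl, pow_succ, w12_cube.1, one_mul]
    constructor
    · have := hc.pow_right 9
      rw [e9] at this
      exact this
    · have := hc.pow_right 4
      rw [e4] at this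
      exact this
  · rintro ⟨h1, h2⟩
    exact (Commute.mul_right h2 h1 : Commute v _)

/-! ### the Harada-Norton group -/

/-- transport to `H0` -/
theorem transfer {x : Cfsg.Spor.HN} {k : ℕ} (h : IsConj (ψ τ) (x ^ k)) : ∃ (c : Cfsg.Spor.HN) (y : H0),
    c * x * c⁻¹ = ψ y ∧ y ^ k = τ ∧ orderOf y = orderOf x ∧
      Nat.card (Subgroup.centralizer ({x} : Set Cfsg.Spor.HN)) = Nat.card (Subgroup.centralizer ({y} : Set H0)) := by
  obtain ⟨c, y, hc, hy⟩ := Cfsg.Agent.H513.HNTau.conj_of_tau h (by rw [← pow_succ, ← pow_succ'])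
  refine ⟨c, y, hy, ?_, Cfsg.Agent.H513.HNTau.order_of_conj hy, ?_⟩
  · apply Cfsg.Agent.KFacts.HN.emb.inj
    rw [map_pow, ← hy, conj_pow, hc]
  · rw [← Cfsg.Agent.H513.HNTau.card_inf hc hy]
    have : Subgroup.centralizer ({x} : Set Cfsg.Spor.HN) ⊓ Subgroup.centralizer ({x ^ k} : Set Cfsg.Spor.HN) =
        Subgroup.centralizer ({x} : Set Cfsg.Spor.HN) := by
      refine inf_eq_left.2 fun v hv => Subgroup.mem_centralizer_singleton_iff.2 ?_
      exact ((Commute.pow_right (Subgroup.mem_centralizer_singleton_iff.1 hv) _)).eq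
    rw [this]

theorem conj_back {x c : Cfsg.Spor.HN} {y z : H0} (h : c * x * c⁻¹ = ψ y) (hz : IsConj z y) : IsConj (ψ z) x := by
  have h1 : IsConj (ψ z) (ψ y) := by
    obtain ⟨d, rfl⟩ := isConj_iff.1 hz
    exact isConj_iff.2 ⟨ψ d, by rw [map_mul, map_mul, map_inv]⟩
  exact h1.trans (by rw [← h]; exact (isConj_iff.2 ⟨c, rfl⟩ : IsConj x (c * x * c⁻¹)).symm)

/-- **4B** -/
theorem four {x : Cfsg.Spor.HN} (h : IsConj (ψ τ) (x ^ 2)) : IsConj (ψ gx) x ∧
    Nat.card (Subgroup.centralizer ({x} : Set Cfsg.Spor.HN)) = 5760 := by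
  obtain ⟨c, y, hy, hk, -, hcard⟩ := transfer h
  exact ⟨conj_back hy (isConj_of_sq_eq_τ hk), hcard.trans (card_of_sq hk)⟩

/-- **8A** -/
theorem eight {x : Cfsg.Spor.HN} (h : IsConj (ψ τ) (x ^ 4)) : IsConj (ψ E) x ∧
    Nat.card (Subgroup.centralizer ({x} : Set Cfsg.Spor.HN)) = 80 := by
  obtain ⟨c, y, hy, hk, -, hcard⟩ := transfer h
  exact ⟨conj_back hy (conj_E hk), hcard.trans (card_of_four hk)⟩

/-- no element of order 16 above 2A -/
theorem not_sixteen (x : Cfsg.Spor.HN) : ¬ IsConj (ψ τ) (x ^ 8) := by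
  intro h
  obtain ⟨c, y, hy, hk, -⟩ := transfer h
  exact ne_sixteen y hk

/-- **6A** -/
theorem six {x : Cfsg.Spor.HN} (h : IsConj (ψ τ) (x ^ 3)) (ho : orderOf x = 6) : IsConj (ψ (hw [2, 2] * τ)) x ∧
    Nat.card (Subgroup.centralizer ({x} : Set Cfsg.Spor.HN)) = 1440 := by
  obtain ⟨c, y, hy, hk, ho', hcard⟩ := transfer h
  have h1 : y ≠ τ := by
    rintro rfl
    have h2 : orderOf τ ∣ 2 := orderOf_dvd_of_pow_eq_one τ_sq
    rw [ho', ho] at h2
    exact absurd h2 (by norm_num)
  obtain ⟨h2, h3⟩ := six0 hk h1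
  exact ⟨conj_back hy h2, hcard.trans h3⟩

/-- **12A** -/
theorem twelve {x : Cfsg.Spor.HN} (h : IsConj (ψ τ) (x ^ 6)) (ho : orderOf x = 12) :
    IsConj (ψ (hw w1 * hw wY)) x ∧ Nat.card (Subgroup.centralizer ({x} : Set Cfsg.Spor.HN)) = 72 := by
  obtain ⟨c, y, hy, hk, ho', hcard⟩ := transfer h
  have h1 : y ^ 4 ≠ 1 := by
    intro h2
    have h3 := orderOf_dvd_of_pow_eq_one h2
    rw [ho', ho] at h3
    exact absurd h3 (by norm_num)
  obtain ⟨h2, h3⟩ := twelve0 hk h1
  exact ⟨conj_back hy h2, hcard.trans h3⟩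

/-- elements of order 3 commuting with a 2A-involution: one class -/
theorem three {x : Cfsg.Spor.HN} {t : Cfsg.Spor.HN} (ht : IsConj (ψ τ) t) (hx : orderOf x = 3) (hc : t * x = x * t) :
    IsConj (ψ (hw [2, 2])) x := by
  obtain ⟨c, y, hc', hy⟩ := Cfsg.Agent.H513.HNTau.conj_of_tau ht hc
  have ho := Cfsg.Agent.H513.HNTau.order_of_conj hy
  refine conj_back hy (conj_three ?_ ?_)
  · rw [← hx, ← ho, pow_orderOf_eq_one]
  · rintro rfl
    rw [orderOf_one, hx] at ho
    exact absurd ho (by norm_num)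

end Cfsg.Agent.H981.M23.HNTwoB

private theorem dce_5858ba0068ce : _root_.True := by
  try have : _root_.True := by simp only [_root_.Cfsg.Agent.H981.M23.HNTwoB.wij.eq_1]
  exact _root_.True.intro
end
end
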